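import Cfsg.Agent.Omega.NO3S.FarQ.RD
import Cfsg.Agent.Involutions.BaerSuzuki

/-!
# NO-3S, `q ≥ 4`, K-free: existence of movers (#19123 (M))

`D : Geom inc R W V s t`, `F : RF inc R W V p l ρ π lam U`, `hF : Flag T lam U Kh`.

* `pCore_eq_bot` : `O₂(H) = 1`;
* `exists_inv` : `f ∈ C_G(R_p)`, `f² = 1`, `ρ f ≠ 1` : some `h ∈ C_G(R_p)` of odd order has `f h f⁻¹ = h⁻¹`, `ρ h ≠ 1`;
* `not_norm`, `smul_l_ne` : `f ∈ O₂(C_G(V_l))` : such an `h` does not normalise `V_l`;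
* `f_moves` : `f (h x₁) ≠ h x₁` for the points `x₁ ≠ p` of `l`;
* `mem_of_comm` : `f ∈ C_G(W_{x₁})`, `u ∈ W_{h x₁}`, `f u = u f` : `u ∈ W_{x₁}`;
* `exists_mover` : everything together.
-/

set_option autoImplicit false
set_option linter.unusedSectionVars false

namespace Cfsg.Agent.Omega.NO3S.FarQ.Free

open Subgroup Cfsg Cfsg.Agent.ZN Cfsg.Agent.MinSimple.VModule Cfsg.Agent.Omega.NOThree.Pts
open Cfsg.Agent.Omega.NO3S.FarQ.Glue

section grp

variable {G : Type*} [Group G]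

/-- an element of odd order is a power of its square -/
theorem exists_pow_sq {h : G} (ho : Odd (orderOf h)) : ∃ k : ℕ, (h * h) ^ k = h := by
  obtain ⟨k, hk⟩ := ho
  refine ⟨k + 1, ?_⟩
  rw [← pow_two, ← pow_mul, show 2 * (k + 1) = orderOf h + 1 by omega, pow_succ, pow_orderOf_eq_one, one_mul]

theorem mem_of_sq_mem {h : G} (ho : Odd (orderOf h)) {N : Subgroup G} (h2 : h * h ∈ N) : h ∈ N := by
  obtain ⟨k, hk⟩ := exists_pow_sq ho
  rw [← hk]
  exact pow_mem h2 k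

/-- `h f h⁻¹ f⁻¹ = h²` if `f` inverts `h` -/
theorem conj_eq_sq {f h : G} (hi : f * h * f⁻¹ = h⁻¹) : h * f * h⁻¹ * f⁻¹ = h * h := by
  have h1 : f * h⁻¹ * f⁻¹ = h := by
    have := congrArg (fun x => x⁻¹) hi
    simpa [mul_assoc] using this
  calc h * f * h⁻¹ * f⁻¹ = h * (f * h⁻¹ * f⁻¹) := by group
    _ = h * h := by rw [h1]

/-- `N(A) ≤ N(C(A))` -/
theorem norm_cent {A : Subgroup G} : normalizer (A : Set G) ≤ normalizer ((centralizer (A : Set G) : Subgroup G) : Set G) := by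
  refine mem_normalizer_of_conj fun g hg a ha => ?_
  rw [mem_centralizer_iff] at ha ⊢
  intro w hw
  have hw' : g⁻¹ * w * g ∈ A := by
    have := (mem_normalizer_iff.1 (inv_mem hg) w).1 hw
    rwa [inv_inv] at this
  have h3 := cg g (ha _ hw')
  have e1 : g * (g⁻¹ * w * g * a) * g⁻¹ = w * (g * a * g⁻¹) := by group
  have e2 : g * (a * (g⁻¹ * w * g)) * g⁻¹ = g * a * g⁻¹ * w := by group
  rwa [e1, e2] at h3

end grp

variable {G X L : Type*} [Group G] [MulAction G X] [MulAction G L]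
variable {inc : X → L → Prop} {R W : X → Subgroup G} {V : L → Subgroup G} {s t n : ℕ}
variable {H M K : Type*} [Group H] [CommGroup M] [MulDistribMulAction H M] [CommGroup K]
variable {p : X} {l : L} {ρ : G → H} {π : G → M} {T : Subgroup H} {lam U : Subgroup M} {Kh : Subgroup (M →* K)}

/-- `O₂(H) = 1`: a normal 2-subgroup of `H` is trivial. -/
theorem eq_bot_of_normal (hF : Flag T lam U Kh) {N : Subgroup H} [N.Normal] (hN : IsPGroup 2 N) : N = ⊥ := by
  have := hF.finH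
  have : Fact (Nat.Prime 2) := ⟨Nat.prime_two⟩
  -- `N ≤ T`
  have hTN : N ≤ T := by
    obtain ⟨Q, hQ⟩ := hN.exists_le_sylow
    obtain ⟨g, hg⟩ := MulAction.exists_smul_eq H Q (hF.two.toSylow hF.ndvd)
    intro x hx
    have h1 : g⁻¹ * x * g ∈ N := by
      have := Normal.conj_mem (inferInstance : N.Normal) x hx g⁻¹
      rwa [inv_inv] at this
    have h2 : x ∈ ((g • Q : Sylow 2 H) : Subgroup H) := by
      rw [Sylow.coe_subgroup_smul, Subgroup.mem_pointwise_smul_iff_inv_smul_mem, ← map_inv, MulAut.smul_def,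
        MulAut.conj_apply, inv_inv]
      exact hQ h1
    rw [hg] at h2
    exact h2
  have hfixl : ∀ n ∈ N, ∀ h : H, ∀ a ∈ lam, n • h • a = h • a := by
    intro n hn h a ha
    have h1 : h⁻¹ * n * h ∈ N := by
      have := Normal.conj_mem (inferInstance : N.Normal) n hn h⁻¹
      rwa [inv_inv] at this
    have h2 := hF.fix _ (hTN h1) a ha
    rw [mul_smul, mul_smul, inv_smul_eq_iff] at h2
    exact h2
  rw [eq_bot_iff]
  intro n hn
  rw [mem_bot]
  apply hF.faith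
  have h3 := hF.gen (zm M N) (fun h a ha n' hn' => hfixl n' hn' h a ha)
  intro m
  have h4 : m ∈ zm M N := by rw [h3]; exact mem_top m
  exact h4 n hn

section inv

variable [Finite G] (D : Geom inc R W V s t) (F : RF inc R W V p l ρ π lam U) (hF : Flag T lam U Kh)
include D F hF

omit D in
/-- powers -/
theorem rho_pow {g : G} (hg : g ∈ centralizer (R p : Set G)) (j : ℕ) : ρ (g ^ j) = ρ g ^ j := by
  induction j with
  | zero => rw [pow_zero, pow_zero, F.re.one]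
  | succ j ih => rw [pow_succ, pow_succ, F.re.mul _ (pow_mem hg j) _ hg, ih]

omit D in
/-- **Baer-Suzuki, lifted.** -/
theorem exists_inv {f : G} (hf : f ∈ centralizer (R p : Set G)) (hff : f * f = 1) (hf1 : ρ f ≠ 1) :
    ∃ h ∈ centralizer (R p : Set G), Odd (orderOf h) ∧ f * h * f⁻¹ = h⁻¹ ∧ ρ h ≠ 1 := by
  have := hF.finH
  have hrr : ρ f * ρ f = 1 := by rw [← F.re.mul _ hf _ hf, hff, F.re.one]
  obtain ⟨k, hk1, hko, hki⟩ := Cfsg.Agent.Involutions.BaerSuzuki.exists_odd_inverted (ρ f) hrr (by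
    intro h1
    apply hf1
    have h2 := eq_bot_of_normal hF h1
    have h3 : ρ f ∈ (normalClosure {ρ f} : Subgroup H) := subset_normalClosure rfl
    rw [h2] at h3
    exact mem_bot.1 h3)
  -- `k² = k f k⁻¹ f⁻¹`; lift `k`
  obtain ⟨g, hg, rfl⟩ := F.re.surj k
  set d := g * f * g⁻¹ * f⁻¹ with hd
  have hgf : g * f * g⁻¹ ∈ centralizer (R p : Set G) := mul_mem (mul_mem hg hf) (inv_mem hg)
  have hdc : d ∈ centralizer (R p : Set G) := mul_mem hgf (inv_mem hf)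
  have hρd : ρ d = ρ g * ρ g := by
    rw [hd, F.re.mul _ hgf _ (inv_mem hf), F.re.conj hg hf, F.re.inv hf, conj_eq_sq hki]
  have hfi : f⁻¹ = f := inv_eq_of_mul_eq_one_left hff
  have hdi : f * d * f⁻¹ = d⁻¹ := by
    rw [hd]
    simp only [mul_inv_rev, inv_inv, hfi]
    calc f * (g * f * g⁻¹ * f) * f = f * (g * f * g⁻¹) * (f * f) := by group
      _ = f * (g * f * g⁻¹) := by rw [hff, mul_one]
      _ = f * (g * (f * g⁻¹)) := by group
  have hdi' : ∀ j : ℕ, f * d ^ j * f⁻¹ = (d ^ j)⁻¹ := by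
    intro j
    rw [← conj_pow, hdi, inv_pow]
  obtain ⟨a, m, hm, hda⟩ := Nat.exists_eq_two_pow_mul_odd (orderOf_pos d).ne'
  have hord : orderOf (d ^ 2 ^ a) = m := by
    rw [orderOf_pow_of_dvd (pow_ne_zero _ two_ne_zero) (by rw [hda]; exact dvd_mul_right _ _), hda,
      Nat.mul_div_cancel_left _ (pow_pos two_pos a)]
  refine ⟨d ^ 2 ^ a, pow_mem hdc _, by rw [hord]; exact hm, hdi' _, ?_⟩
  intro h1
  rw [rho_pow F hF hdc, hρd, ← pow_two, ← pow_mul, ← pow_succ'] at h1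
  -- `ρ g ^ 2 ^ (a + 1) = 1` and odd order
  have h2 : orderOf (ρ g) ∣ 2 ^ (a + 1) := orderOf_dvd_of_pow_eq_one h1
  have h3 : Nat.Coprime (orderOf (ρ g)) (2 ^ (a + 1)) := Nat.Coprime.pow_right _ (Nat.coprime_two_right.2 hko)
  exact hk1 (orderOf_eq_one_iff.1 (Nat.eq_one_of_dvd_coprimes h3 dvd_rfl h2))

end inv

section moves

variable [Finite G] (D : Geom inc R W V s t)

/-- `h ≠ 1` of odd order, inverted by `f ∈ O₂(C_G(V_l))`, does not normalise `V_l`. -/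
theorem not_norm {f h : G} (hfo : f ∈ o2 (centralizer (V l : Set G))) (ho : Odd (orderOf h))
    (hi : f * h * f⁻¹ = h⁻¹) (h1 : h ≠ 1) : h ∉ normalizer (V l : Set G) := by
  intro hn
  have : Fact (Nat.Prime 2) := ⟨Nat.prime_two⟩
  have hN : normalizer (V l : Set G) ≤ normalizer ((o2 (centralizer (V l : Set G)) : Subgroup G) : Set G) := by
    exact norm_cent.trans (Omega.normalizer_le_normalizer_o2' _)
  have h2 : h * f * h⁻¹ * f⁻¹ ∈ o2 (centralizer (V l : Set G)) :=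
    mul_mem (conj_mem_of_le_normalizer hN hn hfo) (inv_mem hfo)
  rw [conj_eq_sq hi] at h2
  have h3 := mem_of_sq_mem ho h2
  obtain ⟨k, hk⟩ := o2_isPGroup (centralizer (V l : Set G)) ⟨h, h3⟩
  have hk' : h ^ 2 ^ k = 1 := congrArg Subtype.val hk
  have h4 : orderOf h ∣ 2 ^ k := orderOf_dvd_of_pow_eq_one hk'
  have h5 : Nat.Coprime (orderOf h) (2 ^ k) := Nat.Coprime.pow_right _ (Nat.coprime_two_right.2 ho)
  exact h1 (orderOf_eq_one_iff.1 (Nat.eq_one_of_dvd_coprimes h5 dvd_rfl h4))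

include D

theorem smul_l_ne {f h : G} (hfo : f ∈ o2 (centralizer (V l : Set G))) (ho : Odd (orderOf h))
    (hi : f * h * f⁻¹ = h⁻¹) (h1 : h ≠ 1) : h • l ≠ l := by
  intro hl
  refine not_norm hfo ho hi h1 (mem_normalizer_fintype ?_)
  intro a ha
  have := D.V_smul h l a ha
  rwa [hl] at this

/-- `f` moves the point `h x₁`. -/
theorem f_moves {f h : G} (hfo : f ∈ o2 (centralizer (V l : Set G))) (ho : Odd (orderOf h))
    (hi : f * h * f⁻¹ = h⁻¹) (h1 : h ≠ 1) (hp : h ∈ centralizer (R p : Set G)) (hpl : inc p l) {x₁ : X}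
    (hx₁ : inc x₁ l) (hline : ∀ v ∈ V l, ∃ r ∈ R p, ∃ r' ∈ R x₁, v = r * r') : f • h • x₁ ≠ h • x₁ := by
  intro hfx
  have hfx₁ : f • x₁ = x₁ := D.cent_V_le hx₁ (o2_le _ hfo)
  have h2 : (h * f * h⁻¹ * f⁻¹) ∈ MulAction.stabilizer G (h • x₁) := by
    show (h * f * h⁻¹ * f⁻¹) • h • x₁ = h • x₁
    have e : f⁻¹ • h • x₁ = h • x₁ := by rw [inv_smul_eq_iff, hfx]
    rw [mul_smul, e, mul_smul, mul_smul, inv_smul_smul, hfx₁]
  rw [conj_eq_sq hi] at h2
  have h3 : h • h • x₁ = h • x₁ := mem_of_sq_mem ho h2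
  have h4 : h • x₁ = x₁ := smul_left_cancel h h3
  have h5 : h • p = p := Four.fix_p D hp
  refine not_norm hfo ho hi h1 (mem_normalizer_fintype ?_)
  intro a ha
  obtain ⟨r, hr, r', hr', rfl⟩ := hline a ha
  have e : h * (r * r') * h⁻¹ = (h * r * h⁻¹) * (h * r' * h⁻¹) := by group
  rw [e]
  exact mul_mem (D.R_le p l hpl (D.norm_R h5 hr)) (D.R_le x₁ l hx₁ (D.norm_R h4 hr'))

/-- `C(f) ∩ W_{h x₁} ≤ W_{x₁}` -/
theorem mem_of_comm {f h : G} {x₁ : X} (hfx : f ∈ centralizer (W x₁ : Set G)) (ho : Odd (orderOf h))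
    (hi : f * h * f⁻¹ = h⁻¹) {u : G} (hu : u ∈ W (h • x₁)) (hfu : f * u = u * f) : u ∈ W x₁ := by
  have h1 : h⁻¹ * u * h ∈ W x₁ := (D.W_smul_iff h).1 hu
  have h2 : (h * f * h⁻¹) * u = u * (h * f * h⁻¹) := by
    have h3 := mem_centralizer_iff.1 hfx _ h1
    have h4 := cg h h3
    have e1 : h * (h⁻¹ * u * h * f) * h⁻¹ = u * (h * f * h⁻¹) := by group
    have e2 : h * (f * (h⁻¹ * u * h)) * h⁻¹ = h * f * h⁻¹ * u := by group
    rw [e1, e2] at h4
    exact h4.symm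
  have h3 : h * h ∈ centralizer ({u} : Set G) := by
    rw [← conj_eq_sq hi]
    refine mul_mem ?_ (inv_mem ?_)
    · rw [mem_centralizer_singleton_iff]; exact h2
    · rw [mem_centralizer_singleton_iff]; exact hfu
  have h4 := mem_of_sq_mem ho h3
  rw [mem_centralizer_singleton_iff] at h4
  have e : h⁻¹ * u * h = u := by rw [mul_assoc, ← h4]; group
  rwa [e] at h1

end moves

/-- **Movers.** -/
theorem exists_mover [Finite G] {Sy : Subgroup G} {ζ : K →* G} (D : Geom inc R W V s t)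
    (F : RD inc R W V p l Sy ρ π ζ T lam U Kh) {f : G} (hff : f * f = 1)
    (hfo : f ∈ o2 (centralizer (V l : Set G))) (hf1 : ρ f ≠ 1) :
    ∃ h ∈ centralizer (R p : Set G), Odd (orderOf h) ∧ f * h * f⁻¹ = h⁻¹ ∧ ρ h ≠ 1 ∧ h • l ≠ l ∧
      (∀ x₁, inc x₁ l → x₁ ≠ p → f • h • x₁ ≠ h • x₁) ∧
      ∀ x₁, inc x₁ l → f ∈ centralizer (W x₁ : Set G) → ∀ u ∈ W (h • x₁), f * u = u * f → u ∈ W x₁ := by
  have hfp : f ∈ centralizer (R p : Set G) := RF.cent_V_le D F.toRF (o2_le _ hfo)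
  obtain ⟨h, hh, ho, hi, hne⟩ := exists_inv F.toRF F.flag hfp hff hf1
  have h1 : h ≠ 1 := by
    rintro rfl
    exact hne F.re.one
  exact ⟨h, hh, ho, hi, hne, smul_l_ne D hfo ho hi h1,
    fun x₁ hx₁ hx₁p => f_moves D hfo ho hi h1 hh F.pl hx₁ (F.line x₁ hx₁ hx₁p),
    fun x₁ _ hfx u hu hfu => mem_of_comm D hfx ho hi hu hfu⟩

/-- For critical pairs: `f ∈ W_q`, `l` the first line of a walk from `p` to `q`, `x₁` its second point. -/
theorem exists_mover_crit [Finite G] {Sy : Subgroup G} {ζ : K →* G} (D : Geom inc R W V s t)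
    (F : RD inc R W V p l Sy ρ π ζ T lam U Kh) {q x₁ : X} (hc : Crit inc W n p q) (hn : 1 ≤ n) (hx₁ : inc x₁ l)
    (hw : Walk inc (n - 1) x₁ q) {f : G} (hf : f ∈ W q) (hf1 : ρ f ≠ 1) :
    ∃ h ∈ centralizer (R p : Set G), Odd (orderOf h) ∧ f * h * f⁻¹ = h⁻¹ ∧ ρ h ≠ 1 ∧ h • l ≠ l ∧
      f • h • x₁ ≠ h • x₁ ∧ ∀ u ∈ W (h • x₁), f * u = u * f → u ∈ W x₁ := by
  have hx₁p : x₁ ≠ p := by
    rintro rfl
    exact hc.not_walk (by omega) hw
  have hcom : Com W q x₁ := hc.min (n - 1) (by omega) _ _ hw.symm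
  have hfo : f ∈ o2 (centralizer (V l : Set G)) := D.low_line hc.min hw.symm (by omega) hcom hx₁ hf
  obtain ⟨h, hh, ho, hi, hne, hl, hm, hu⟩ := exists_mover D F (D.sq q f hf) hfo hf1
  refine ⟨h, hh, ho, hi, hne, hl, hm x₁ hx₁ hx₁p, hu x₁ hx₁ ?_⟩
  rw [mem_centralizer_iff]
  exact fun w hw' => (hcom f hf w hw').symm

end Cfsg.Agent.Omega.NO3S.FarQ.Free
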