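import Cfsg.Agent.Omega.NOThree.Pts

/-!
# FarQ, piece (B): BAD movers (helper937 #18718, section 2; LEAN PLAN #19123)

`Geom inc R W V s t`, any `s`; `(p, l)` a flag, `y ≠ p` a point of `l`, `q` a point, `W_q` centralises `R_p` and `W_y`
and `[W_p, W_q] ≤ W_y`.

* `kp R W p = K_p`; `hm` : the homomorphism `k ↦ [k, v]`, `K_p → R_p` (`v ∈ W_p`);
* `KF inc R W V p l` : `[K_p, v] = R_p` for `v ∈ V_l \ R_p`, `[K_p ∩ C(V_l), u] = R_p` for `u ∈ I_l \ V_l` ((F1), (F2'));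
* `Bp` : the situation; a mover `(x, f)`: `f ∈ W_q`, `h ∈ C_G(R_p)`, `h ^ k = 1`, `k` odd, `f h f⁻¹ = h⁻¹`, `x = h y`,
  `f x ≠ x`; it is BAD: not `W_x ∩ W_{f x} ≤ W_p`;
* `Bp.comm_mem` : `[w, v] ∈ V_l` for `w ∈ W_q`, `v ∈ R_x`;
* `Bp.not_mem_R` : `[f, v] ∉ R_p` for `1 ≠ v ∈ R_x`.
-/

set_option autoImplicit false
set_option linter.unusedSectionVars false

namespace Cfsg.Agent.Omega.NO3S.FarQ.Bad

open Subgroup Cfsg Cfsg.Agent.ZN Cfsg.Agent.MinSimple.VModule Cfsg.Agent.Omega.NOThree.Pts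

variable {G X L : Type*} [Group G] [MulAction G X] [MulAction G L]
variable {inc : X → L → Prop} {R W : X → Subgroup G} {V : L → Subgroup G} {s t n : ℕ}

/-! ### The count -/

/-- `K_p` modulo the stabiliser of `x`, `x^f` has order `≤ s²`. -/
theorem count {N C : Type*} [Group N] [Group C] [Finite C] [Nontrivial C] (α α' β γ : N →* C) (σ : N → N)
    (h1 : ∀ k, α (σ k) = α' k) (h3 : ∀ k, β (σ k) = β k) (h4 : ∀ k, γ (σ k) = γ k)
    (hK : ∀ k, α k = 1 → α' k = 1 → β k = 1 ∧ γ k = 1) (hs : ∀ a b, ∃ k, β k = a ∧ γ k = b) : False := by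
  set δ : N →* C × C := α.prod α' with hδ
  set ε : N →* C × C := β.prod γ with hε
  have hker : δ.ker ≤ ε.ker := by
    intro k hk
    rw [MonoidHom.mem_ker] at hk ⊢
    have e1 : α k = 1 := congrArg Prod.fst hk
    have e2 : α' k = 1 := congrArg Prod.snd hk
    obtain ⟨e3, e4⟩ := hK k e1 e2
    exact Prod.ext e3 e4
  have hεs : ε.range = ⊤ := by
    rw [eq_top_iff]
    rintro ⟨a, b⟩ -
    obtain ⟨k, hk1, hk2⟩ := hs a b
    exact ⟨k, Prod.ext hk1 hk2⟩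
  have i1 : ε.ker.index = Nat.card (C × C) := by
    rw [index_ker, hεs]
    exact Nat.card_congr topEquiv.toEquiv
  have i2 : δ.ker.index ≤ Nat.card (C × C) := by
    rw [index_ker]
    exact Subgroup.card_le_card_group _
  have i3 := relIndex_mul_index hker
  have hpos : 0 < ε.ker.index := by rw [i1]; exact Nat.card_pos
  have hδpos : δ.ker.index ≠ 0 := by
    rw [index_ker]
    exact Nat.card_pos.ne'
  have i4 : δ.ker.relIndex ε.ker = 1 := by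
    have h5 : δ.ker.relIndex ε.ker * ε.ker.index ≤ 1 * ε.ker.index := by rw [i3, one_mul, i1]; exact i2
    have h6 := Nat.le_of_mul_le_mul_right h5 hpos
    have h7 : δ.ker.relIndex ε.ker ≠ 0 := by
      intro h0
      rw [h0, zero_mul] at i3
      exact hδpos i3.symm
    omega
  have hle : ε.ker ≤ δ.ker := relIndex_eq_one.1 i4
  have hδs : δ.range = ⊤ := by
    have h5 : Nat.card δ.range = Nat.card (C × C) := by
      rw [← index_ker, le_antisymm hker hle, i1]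
    exact Subgroup.eq_top_of_card_eq _ h5
  obtain ⟨r, hr⟩ := exists_ne (1 : C)
  have h5 : ((r, 1) : C × C) ∈ δ.range := by rw [hδs]; exact mem_top _
  obtain ⟨k, hk⟩ := h5
  have e1 : α k = r := congrArg Prod.fst hk
  have e2 : α' k = 1 := congrArg Prod.snd hk
  have h6 : k⁻¹ * σ k ∈ ε.ker := by
    rw [MonoidHom.mem_ker]
    refine Prod.ext ?_ ?_
    · show β (k⁻¹ * σ k) = 1
      rw [map_mul, map_inv, h3, inv_mul_cancel]
    · show γ (k⁻¹ * σ k) = 1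
      rw [map_mul, map_inv, h4, inv_mul_cancel]
  have h7 : α (k⁻¹ * σ k) = 1 := congrArg Prod.fst (MonoidHom.mem_ker.1 (hle h6))
  rw [map_mul, map_inv, h1, e1, e2, mul_one, inv_eq_one] at h7
  exact hr h7

/-! ### `K_p` -/

/-- `K_p` -/
def kp (R W : X → Subgroup G) (p : X) : Subgroup G where
  carrier := {k | k ∈ centralizer (R p : Set G) ∧ ∀ w ∈ W p, k * w * k⁻¹ * w⁻¹ ∈ R p}
  one_mem' := ⟨one_mem _, fun w _ => by
    have e : (1 : G) * w * 1⁻¹ * w⁻¹ = 1 := by group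
    rw [e]; exact one_mem _⟩
  mul_mem' := by
    rintro a b ⟨ha, ha'⟩ ⟨hb, hb'⟩
    refine ⟨mul_mem ha hb, fun w hw => ?_⟩
    have h1 := mem_centralizer_iff.1 ha _ (hb' w hw)
    have e : a * b * w * (a * b)⁻¹ * w⁻¹ = (a * (b * w * b⁻¹ * w⁻¹)) * a⁻¹ * (a * w * a⁻¹ * w⁻¹) := by group
    rw [e, ← h1, mul_inv_cancel_right]
    exact mul_mem (hb' w hw) (ha' w hw)
  inv_mem' := by
    rintro a ⟨ha, ha'⟩
    refine ⟨inv_mem ha, fun w hw => ?_⟩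
    have h1 := mem_centralizer_iff.1 ha _ (inv_mem (ha' w hw))
    have e : a⁻¹ * w * a⁻¹⁻¹ * w⁻¹ = a⁻¹ * ((a * w * a⁻¹ * w⁻¹)⁻¹ * a) := by group
    rw [e, h1, inv_mul_cancel_left]
    exact inv_mem (ha' w hw)

theorem mem_kp {p : X} {k : G} : k ∈ kp R W p ↔
    k ∈ centralizer (R p : Set G) ∧ ∀ w ∈ W p, k * w * k⁻¹ * w⁻¹ ∈ R p := Iff.rfl

/-- `[k k', v] = [k, v] [k', v]` -/
theorem comm_mul (D : Geom inc R W V s t) {p : X} {k k' v : G} (hk : k ∈ kp R W p) (hk' : k' ∈ kp R W p)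
    (hv : v ∈ W p) : k * k' * v * (k * k')⁻¹ * v⁻¹ = (k * v * k⁻¹ * v⁻¹) * (k' * v * k'⁻¹ * v⁻¹) := by
  have h1 := mem_centralizer_iff.1 hk.1 _ (hk'.2 v hv)
  have h2 := D.comm p _ (D.R_le_W p (hk'.2 v hv)) _ (D.R_le_W p (hk.2 v hv))
  have e : k * k' * v * (k * k')⁻¹ * v⁻¹ = (k * (k' * v * k'⁻¹ * v⁻¹)) * k⁻¹ * (k * v * k⁻¹ * v⁻¹) := by group
  rw [e, ← h1, mul_inv_cancel_right, h2]

/-- The homomorphism `k ↦ [k, v]` -/
def hm (D : Geom inc R W V s t) {p : X} {v : G} (hv : v ∈ W p) : kp R W p →* R p where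
  toFun k := ⟨k * v * (k : G)⁻¹ * v⁻¹, k.2.2 v hv⟩
  map_one' := Subtype.ext (by
    show (1 : G) * v * (1 : G)⁻¹ * v⁻¹ = 1
    group)
  map_mul' a b := Subtype.ext (comm_mul D a.2 b.2 hv)

theorem hm_apply (D : Geom inc R W V s t) {p : X} {v : G} (hv : v ∈ W p) (k : kp R W p) :
    (hm D hv k : G) = k * v * (k : G)⁻¹ * v⁻¹ := rfl

theorem hm_eq_one (D : Geom inc R W V s t) {p : X} {v : G} (hv : v ∈ W p) {k : kp R W p} :
    hm D hv k = 1 ↔ (k : G) * v = v * k := by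
  rw [← Subtype.coe_inj, hm_apply, OneMemClass.coe_one, mul_inv_eq_one, mul_inv_eq_iff_eq_mul]

theorem fix_p' (D : Geom inc R W V s t) {p : X} {g : G} (hg : g ∈ centralizer (R p : Set G)) : g • p = p :=
  D.fix_of_centralizes fun a ha => (mem_centralizer_iff.1 hg a ha).symm

/-- `C_G(R_p)` normalises `K_p`. -/
theorem conj_kp (D : Geom inc R W V s t) {p : X} {g k : G} (hg : g ∈ centralizer (R p : Set G))
    (hk : k ∈ kp R W p) : g * k * g⁻¹ ∈ kp R W p := by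
  refine ⟨mul_mem (mul_mem hg hk.1) (inv_mem hg), fun w hw => ?_⟩
  have hgp : g⁻¹ • p = p := fix_p' D (inv_mem hg)
  have h1 := D.norm_W hgp hw
  rw [inv_inv] at h1
  have h2 := hk.2 _ h1
  have h3 := mem_centralizer_iff.1 hg _ h2
  have e : g * k * g⁻¹ * w * (g * k * g⁻¹)⁻¹ * w⁻¹ = g * (k * (g⁻¹ * w * g) * k⁻¹ * (g⁻¹ * w * g)⁻¹) * g⁻¹ := by
    group
  rw [e, ← h3, mul_inv_cancel_right]
  exact h2

/-- `[g k g⁻¹, g v g⁻¹] = [k, v]` for `g ∈ C_G(R_p)` -/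
theorem comm_conj {p : X} {g k v : G} (hg : g ∈ centralizer (R p : Set G))
    (hk : k ∈ kp R W p) (hv : v ∈ W p) :
    g * k * g⁻¹ * (g * v * g⁻¹) * (g * k * g⁻¹)⁻¹ * (g * v * g⁻¹)⁻¹ = k * v * k⁻¹ * v⁻¹ := by
  have h3 := mem_centralizer_iff.1 hg _ (hk.2 v hv)
  have e : g * k * g⁻¹ * (g * v * g⁻¹) * (g * k * g⁻¹)⁻¹ * (g * v * g⁻¹)⁻¹ = g * (k * v * k⁻¹ * v⁻¹) * g⁻¹ := by
    group
  rw [e, ← h3, mul_inv_cancel_right]

/-- `x ∼ p` on `m`: if `g ∈ R_p`-translates the elements of `R_x`, then `g x` is on `m`. -/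
theorem inc_of_comm (D : Geom inc R W V s t) {p x : X} {m : L} (hx : inc x m) (hp : inc p m) {g a : G}
    (ha : a ∈ R x) (ha1 : a ≠ 1) (hg : g * a * g⁻¹ * a⁻¹ ∈ R p) : inc (g • x) m := by
  have h1 : g * a * g⁻¹ ∈ V m := by
    have := mul_mem (D.R_le p m hp hg) (D.R_le x m hx ha)
    rwa [inv_mul_cancel_right] at this
  obtain ⟨z, hz, haz⟩ := D.cover m _ h1
  have h2 := D.ti _ _ _ (D.R_smul g x a ha) haz fun h0 => ha1 (conj_eq_one_iff.1 h0)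
  rwa [h2]

/-- an element of `K_p` fixing `x ≠ p` centralises `R_x` (`x ∼ p`) -/
theorem comm_of_fix (D : Geom inc R W V s t) {p x : X} {m : L} (hx : inc x m) (hp : inc p m) (hne : x ≠ p) {k : G}
    (hk : k ∈ kp R W p) (hkx : k • x = x) {a : G} (ha : a ∈ R x) : k * a = a * k := by
  have haW : a ∈ W p := D.V_le p m hp (D.R_le x m hx ha)
  have h1 : k * a * k⁻¹ * a⁻¹ ∈ R x := mul_mem (D.norm_R hkx ha) (inv_mem ha)
  by_contra hcon
  refine hne (D.ti _ _ _ h1 (hk.2 a haW) fun h0 => hcon ?_)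
  rwa [mul_inv_eq_one, mul_inv_eq_iff_eq_mul] at h0

/-- **(F1), (F2') at the flag `(p, l)`** -/
structure KF (inc : X → L → Prop) (R W : X → Subgroup G) (V : L → Subgroup G) (p : X) (l : L) : Prop where
  f1 : ∀ v ∈ V l, v ∉ R p → ∀ r ∈ R p, ∃ k ∈ centralizer (R p : Set G),
    (∀ w ∈ W p, k * w * k⁻¹ * w⁻¹ ∈ R p) ∧ k * v * k⁻¹ * v⁻¹ = r
  f2 : ∀ u ∈ W p, (∀ y, inc y l → u ∈ W y) → u ∉ V l → ∀ r ∈ R p, ∃ k ∈ centralizer (R p : Set G),
    (∀ w ∈ W p, k * w * k⁻¹ * w⁻¹ ∈ R p) ∧ (∀ v ∈ V l, k * v = v * k) ∧ k * u * k⁻¹ * u⁻¹ = r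

/-- (F1) from the transitivity of `K_p` on the points `≠ p` of `l`. -/
theorem f1_of_tr (D : Geom inc R W V s t) {p : X} {l : L} (hp : inc p l)
    (tr : ∀ x y, inc x l → x ≠ p → inc y l → y ≠ p →
      ∃ k ∈ centralizer (R p : Set G), (∀ w ∈ W p, k * w * k⁻¹ * w⁻¹ ∈ R p) ∧ k • y = x)
    {v : G} (hv : v ∈ V l) (hvp : v ∉ R p) {r : G} (hr : r ∈ R p) :
    ∃ k ∈ centralizer (R p : Set G), (∀ w ∈ W p, k * w * k⁻¹ * w⁻¹ ∈ R p) ∧ k * v * k⁻¹ * v⁻¹ = r := by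
  obtain ⟨y, hy, hvy⟩ := D.cover l v hv
  have hyp : y ≠ p := by rintro rfl; exact hvp hvy
  have hrV := D.R_le p l hp hr
  obtain ⟨x, hx, hvx⟩ := D.cover l _ (mul_mem hrV hv)
  have hrv : r * v ∉ R p := fun h => hvp ((mul_mem_cancel_left hr).1 h)
  have hxp : x ≠ p := by rintro rfl; exact hrv hvx
  obtain ⟨k, hk, hk', hkx⟩ := tr x y hx hxp hy hyp
  refine ⟨k, hk, hk', ?_⟩
  have hvW : v ∈ W p := D.V_le p l hp hv
  have h1 : k * v * k⁻¹ ∈ R x := by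
    have := D.R_smul k y v hvy
    rwa [hkx] at this
  have h2 : k * v * k⁻¹ * (r * v)⁻¹ ∈ R x := mul_mem h1 (inv_mem hvx)
  have h3 : k * v * k⁻¹ * (r * v)⁻¹ = (k * v * k⁻¹ * v⁻¹) * r⁻¹ := by group
  have h4 : (k * v * k⁻¹ * v⁻¹) * r⁻¹ ∈ R p := mul_mem (hk' v hvW) (inv_mem hr)
  rw [h3] at h2
  by_contra hcon
  exact hxp (D.ti _ _ _ h2 h4 fun h0 => hcon (mul_inv_eq_one.1 h0))

/-! ### Bad movers -/

/-- **A bad mover.** -/
structure Bp (inc : X → L → Prop) (R W : X → Subgroup G) (V : L → Subgroup G) (p y q : X) (l : L) (f h : G) : Prop where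
  kf : KF inc R W V p l
  pl : inc p l
  yl : inc y l
  ne : y ≠ p
  /-- `[W_q, R_p] = 1` -/
  cen : ∀ w ∈ W q, w ∈ centralizer (R p : Set G)
  /-- `[W_q, W_y] = 1` -/
  com : ∀ w ∈ W q, ∀ v ∈ W y, w * v = v * w
  /-- `[W_q, W_p] ≤ W_y` -/
  le : ∀ w ∈ W q, ∀ v ∈ W p, w * v * w⁻¹ * v⁻¹ ∈ W y
  mem : f ∈ W q
  hR : h ∈ centralizer (R p : Set G)
  odd : ∃ k, Odd k ∧ h ^ k = 1
  inv : f * h * f⁻¹ = h⁻¹
  mv : f • h • y ≠ h • y
  bad : ¬ W (h • y) ⊓ W (f • h • y) ≤ W p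

namespace Bp

variable (D : Geom inc R W V s t) {p y q : X} {l : L} {f h : G} (B : Bp inc R W V p y q l f h)
include D B

theorem hp : h • p = p := fix_p' D B.hR

theorem wp {w : G} (hw : w ∈ W q) : w • p = p := fix_p' D (B.cen w hw)

theorem wy {w : G} (hw : w ∈ W q) : w • y = y := D.fix_of_centralizes fun a ha => B.com w hw a (D.R_le_W y ha)

/-- the line `h l` through `p` and `x = h y` -/
theorem xl : inc (h • y) (h • l) := D.inc_smul h _ _ B.yl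

theorem pl' : inc p (h • l) := by
  have := D.inc_smul h _ _ B.pl
  rwa [B.hp D] at this

theorem fx : f • h • y = h⁻¹ • y := by
  have e : f * h = h⁻¹ * f := by rw [← B.inv]; group
  rw [smul_smul, e, mul_smul, B.wy D B.mem]

/-- `h`, `f` centralise `W_x ∩ W_{f x}` -/
theorem comm_h {u : G} (hu : u ∈ W (h • y)) (hu' : u ∈ W (f • h • y)) : h * u = u * h := by
  rw [B.fx D] at hu'
  have e1 : f * h = h⁻¹ * f := by rw [← B.inv]; group
  have e2 : f * h⁻¹ = h * f := by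
    have : f * h⁻¹ = (f * h * f⁻¹)⁻¹ * f := by group
    rw [this, B.inv, inv_inv]
  -- `h * h * f`
  have h1 : (h * h * f) * u = u * (h * h * f) := by
    have h2 := B.com f B.mem _ ((D.W_smul_iff h).1 hu)
    have h3 : h * h * f = h * f * h⁻¹ := by rw [mul_assoc h f h⁻¹, e2, ← mul_assoc]
    rw [h3]
    calc h * f * h⁻¹ * u = h * (f * (h⁻¹ * u * h)) * h⁻¹ := by group
      _ = h * ((h⁻¹ * u * h) * f) * h⁻¹ := by rw [h2]
      _ = u * (h * f * h⁻¹) := by group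
  have h1' : (h⁻¹ * h⁻¹ * f) * u = u * (h⁻¹ * h⁻¹ * f) := by
    have h2 := B.com f B.mem _ ((D.W_smul_iff h⁻¹).1 hu')
    rw [inv_inv] at h2
    have h3 : h⁻¹ * h⁻¹ * f = h⁻¹ * f * h := by rw [mul_assoc h⁻¹ f h, e1, ← mul_assoc]
    rw [h3]
    calc h⁻¹ * f * h * u = h⁻¹ * (f * (h * u * h⁻¹)) * h := by group
      _ = h⁻¹ * ((h * u * h⁻¹) * f) * h := by rw [h2]
      _ = u * (h⁻¹ * f * h) := by group
  have m1 : h * h * f ∈ centralizer ({u} : Set G) := mem_centralizer_singleton_iff.2 h1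
  have m2 : h⁻¹ * h⁻¹ * f ∈ centralizer ({u} : Set G) := mem_centralizer_singleton_iff.2 h1'
  have m3 : h ^ 4 ∈ centralizer ({u} : Set G) := by
    have h5 := mul_mem m1 (inv_mem m2)
    have e : h * h * f * (h⁻¹ * h⁻¹ * f)⁻¹ = h ^ 4 := by group
    rwa [e] at h5
  obtain ⟨k, ⟨j, rfl⟩, hk⟩ := B.odd
  have m4 : h ∈ centralizer ({u} : Set G) := by
    have h6 : h ^ ((2 * j + 1) * (2 * j + 1)) = 1 := by rw [pow_mul, hk, one_pow]
    have h7 : (2 * j + 1) * (2 * j + 1) = 4 * (j * j + j) + 1 := by ring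
    rw [h7, pow_succ, pow_mul] at h6
    rw [eq_inv_of_mul_eq_one_right h6]
    exact inv_mem (pow_mem m3 _)
  exact mem_centralizer_singleton_iff.1 m4

theorem mem_y {u : G} (hu : u ∈ W (h • y)) (hu' : u ∈ W (f • h • y)) : u ∈ W y := by
  have h1 := (D.W_smul_iff h).1 hu
  have e : h⁻¹ * u * h = u := by rw [mul_assoc, ← B.comm_h D hu hu']; group
  rwa [e] at h1

/-- `u ∈ W_{w x}` for `w ∈ W_q` -/
theorem mem_wx {u w : G} (hw : w ∈ W q) (hu : u ∈ W (h • y)) (hu' : u ∈ W (f • h • y)) : u ∈ W (w • h • y) := by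
  rw [D.W_smul_iff w]
  have h1 := B.com w hw u (B.mem_y D hu hu')
  have e : w⁻¹ * u * w = u := by rw [mul_assoc, ← h1]; group
  rwa [e]

/-- `k ∈ K_p` fixing `x` and `f x` fixes every `z ∼ p` with `W_x ∩ W_{f x} ≤ W_z` -/
theorem fix_of {k : G} (hk : k ∈ kp R W p) (h1 : k • h • y = h • y) (h2 : k • f • h • y = f • h • y) {z : X} {m : L}
    (hz : inc z m) (hp : inc p m) (hY : ∀ u ∈ W (h • y), u ∈ W (f • h • y) → u ∈ W z) : k • z = z := by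
  by_contra hne
  apply B.bad
  rintro u ⟨hu, hu'⟩
  obtain ⟨a, ha, ha1⟩ := D.exists_ne z
  have h3 := inc_of_comm D hz hp ha ha1 (hk.2 a (D.V_le p m hp (D.R_le z m hz ha)))
  refine D.inf_le hz h3 hp (fun e => hne e.symm) ⟨hY u hu hu', ?_⟩
  show u ∈ W (k • z)
  rw [D.W_smul_iff]
  refine hY _ ?_ ?_
  · rw [← D.W_smul_iff, h1]; exact hu
  · rw [← D.W_smul_iff, h2]; exact hu'

theorem ne_p {z : X} (hY : ∀ u ∈ W (h • y), u ∈ W (f • h • y) → u ∈ W z) : z ≠ p := by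
  rintro rfl
  exact B.bad fun u hu => hY u hu.1 hu.2

/-- such a `k` centralises `R_z` -/
theorem comm_of {k : G} (hk : k ∈ kp R W p) (h1 : k • h • y = h • y) (h2 : k • f • h • y = f • h • y) {z : X} {m : L}
    (hz : inc z m) (hp : inc p m) (hY : ∀ u ∈ W (h • y), u ∈ W (f • h • y) → u ∈ W z) {a : G} (ha : a ∈ R z) :
    k * a = a * k :=
  comm_of_fix D hz hp (B.ne_p D hY) hk (B.fix_of D hk h1 h2 hz hp hY) ha

/-- **(B)** `[w, v] ∈ V_l` for `w ∈ W_q`, `v ∈ R_x` -/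
theorem comm_mem {w v : G} (hw : w ∈ W q) (hv : v ∈ R (h • y)) : w * v * w⁻¹ * v⁻¹ ∈ V l := by
  by_contra hc
  set c := w * v * w⁻¹ * v⁻¹ with hcdef
  have hfR := B.cen f B.mem
  have hff : f * f = 1 := D.sq q f B.mem
  have hfi : f⁻¹ = f := inv_eq_of_mul_eq_one_left hff
  have hRW : R (h • y) ≤ W p := (D.R_le _ _ (B.xl D)).trans (D.V_le _ _ (B.pl' D))
  have hvW := hRW hv
  have hwvW : w * v * w⁻¹ ∈ W p := D.norm_W (B.wp D hw) hvW
  have hcW : c ∈ W p := mul_mem hwvW (inv_mem hvW)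
  have hcy : c ∈ W y := B.le w hw v hvW
  have hcI : ∀ z, inc z l → c ∈ W z := fun z hz => D.inf_le B.pl B.yl hz B.ne.symm ⟨hcW, hcy⟩
  obtain ⟨v0, hv0, hv01⟩ := D.exists_ne (h • y)
  have hv0W := hRW hv0
  have hfv0R : f * v0 * f⁻¹ ∈ R (f • h • y) := D.R_smul f _ _ hv0
  have hfv0W : f * v0 * f⁻¹ ∈ W p := D.norm_W (B.wp D B.mem) hv0W
  obtain ⟨a, ha, ha1⟩ := D.exists_ne y
  have haV := D.R_le y l B.yl ha
  have haW : a ∈ W p := D.V_le p l B.pl haV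
  have hap : a ∉ R p := fun h0 => B.ne (D.ti _ _ _ ha h0 ha1)
  have hfx : inc (f • h • y) (f • h • l) := D.inc_smul f _ _ (B.xl D)
  have hfp : inc p (f • h • l) := by
    have := D.inc_smul f _ _ (B.pl' D)
    rwa [B.wp D B.mem] at this
  have hwx : inc (w • h • y) (w • h • l) := D.inc_smul w _ _ (B.xl D)
  have hwp : inc p (w • h • l) := by
    have := D.inc_smul w _ _ (B.pl' D)
    rwa [B.wp D hw] at this
  have : Finite (R p) := Nat.finite_of_card_ne_zero (by rw [D.card]; have := D.two_le; omega)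
  have : Nontrivial (R p) := by
    obtain ⟨b, hb, hb1⟩ := D.exists_ne p
    exact ⟨⟨⟨b, hb⟩, 1, fun e => hb1 (congrArg Subtype.val e)⟩⟩
  have hcv' : ∀ (k : kp R W p) (v' : G) (hv' : v' ∈ W p), f * v' = v' * f →
      hm D hv' ⟨f * k * f⁻¹, conj_kp D hfR k.2⟩ = hm D hv' k := by
    intro k v' hv' e
    refine Subtype.ext ?_
    have h3 := comm_conj hfR k.2 hv'
    have e' : f * v' * f⁻¹ = v' := by rw [e, mul_inv_cancel_right]
    rw [e'] at h3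
    exact h3
  refine count (hm D hv0W) (hm D hfv0W) (hm D haW) (hm D hcW) (fun k => ⟨f * k * f⁻¹, conj_kp D hfR k.2⟩)
    ?_ ?_ ?_ ?_ ?_
  · intro k
    refine Subtype.ext ?_
    have h3 := comm_conj hfR k.2 hfv0W
    have e' : f * (f * v0 * f⁻¹) * f⁻¹ = v0 := by
      rw [hfi]
      calc f * (f * v0 * f) * f = (f * f) * v0 * (f * f) := by group
        _ = v0 := by rw [hff, one_mul, mul_one]
    rw [e'] at h3
    exact h3
  · intro k
    exact hcv' k a haW (B.com f B.mem a (D.R_le_W y ha))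
  · intro k
    exact hcv' k c hcW (B.com f B.mem c hcy)
  · rintro ⟨k, hk⟩ h1 h2
    rw [hm_eq_one] at h1 h2
    have k1 : k • h • y = h • y := D.fix hv0 hv01 h1
    have k2 : k • f • h • y = f • h • y := D.fix hfv0R (fun h0 => hv01 (conj_eq_one_iff.1 h0)) h2
    rw [hm_eq_one, hm_eq_one]
    refine ⟨B.comm_of D hk k1 k2 B.yl B.pl (fun u hu hu' => B.mem_y D hu hu') ha, ?_⟩
    have k3 : k * v = v * k := comm_of_fix D (B.xl D) (B.pl' D)
      (B.ne_p D fun u hu _ => hu) hk k1 hv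
    have k4 : k * (w * v * w⁻¹) = (w * v * w⁻¹) * k :=
      B.comm_of D hk k1 k2 hwx hwp (fun u hu hu' => B.mem_wx D hw hu hu') (D.R_smul w _ _ hv)
    have k5 : k * v⁻¹ = v⁻¹ * k := by
      rw [D.inv_eq hvW]; exact k3
    show k * (w * v * w⁻¹ * v⁻¹) = (w * v * w⁻¹ * v⁻¹) * k
    rw [← mul_assoc, k4, mul_assoc, k5, ← mul_assoc]
  · rintro ⟨r, hr⟩ ⟨r', hr'⟩
    obtain ⟨k1, hk1, hk1', e1⟩ := B.kf.f1 a haV hap r hr
    have hk1m : k1 ∈ kp R W p := ⟨hk1, hk1'⟩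
    obtain ⟨k2, hk2, hk2', hk2V, e2⟩ := B.kf.f2 c hcW hcI hc (r' * (k1 * c * k1⁻¹ * c⁻¹)⁻¹)
      (mul_mem hr' (inv_mem (hk1' c hcW)))
    have hk2m : k2 ∈ kp R W p := ⟨hk2, hk2'⟩
    refine ⟨⟨k2 * k1, mul_mem hk2m hk1m⟩, Subtype.ext ?_, Subtype.ext ?_⟩
    · show k2 * k1 * a * (k2 * k1)⁻¹ * a⁻¹ = r
      rw [comm_mul D hk2m hk1m haW, e1, hk2V a haV]
      group
    · show k2 * k1 * c * (k2 * k1)⁻¹ * c⁻¹ = r'
      rw [comm_mul D hk2m hk1m hcW, e2, inv_mul_cancel_right]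

/-- **(B)** `[v, w] ∈ V_l` for `w ∈ W_q`, `v ∈ R_x` -/
theorem comm_mem' {w v : G} (hw : w ∈ W q) (hv : v ∈ R (h • y)) : v * w * v⁻¹ * w⁻¹ ∈ V l := by
  have h1 := inv_mem (B.comm_mem D hw hv)
  have e : (w * v * w⁻¹ * v⁻¹)⁻¹ = v * w * v⁻¹ * w⁻¹ := by group
  rwa [e] at h1

/-- `[f, v] ∉ R_p` for `1 ≠ v ∈ R_x` -/
theorem not_mem_R {v : G} (hv : v ∈ R (h • y)) (hv1 : v ≠ 1) : f * v * f⁻¹ * v⁻¹ ∉ R p := by
  intro hcon
  have h1 := inc_of_comm D (B.xl D) (B.pl' D) hv hv1 hcon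
  exact B.bad (D.inf_le (B.xl D) h1 (B.pl' D) B.mv.symm)

theorem not_mem_R' {v : G} (hv : v ∈ R (h • y)) (hv1 : v ≠ 1) : v * f * v⁻¹ * f⁻¹ ∉ R p := by
  intro hcon
  apply B.not_mem_R D hv hv1
  have h1 := inv_mem hcon
  have e : (v * f * v⁻¹ * f⁻¹)⁻¹ = f * v * f⁻¹ * v⁻¹ := by group
  rwa [e] at h1

end Bp

end Cfsg.Agent.Omega.NO3S.FarQ.Bad
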