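import Cfsg.Agent.Omega.NO3S.FarQ.End

/-!
# FarQ (`q ≥ 4`, `n ≥ 3`), K-free: the whole input

* `Frm inc R W V p l Sy ρ π ζ T lam U Kh` : `RD` at the base flag `(p, l)`, all flags are conjugate, `C_G(R_p)` is transitive
  on the lines on `p`, (NO), and (F2') on the base line; `Frm.smul` : transport to every flag;
* `BB U` : the elements of `H` which act trivially on `U` and on `M / U`;
* `Frm.comm_im` .. : translations between `G` and `(H, M)`.
-/

set_option autoImplicit false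
set_option linter.unusedSectionVars false

namespace Cfsg.Agent.Omega.NO3S.FarQ.Free

open Subgroup Cfsg Cfsg.Agent.ZN Cfsg.Agent.MinSimple.VModule Cfsg.Agent.Omega.NOThree.Pts
open Cfsg.Agent.Omega.NOThree.LemmaM (NoOver)
open Cfsg.Agent.Omega.NO3S.FarQ.Glue

section abs

variable {H M : Type*} [Group H] [CommGroup M] [MulDistribMulAction H M]

/-- `C_H(U) ∩ C_H(M/U)` -/
def BB (U : Subgroup M) : Subgroup H where
  carrier := {h | (∀ u ∈ U, h • u = u) ∧ ∀ m : M, (h • m) * m⁻¹ ∈ U}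
  one_mem' := ⟨fun u _ => one_smul H u, fun m => by rw [one_smul, mul_inv_cancel]; exact one_mem _⟩
  mul_mem' := by
    rintro a b ⟨ha, ha'⟩ ⟨hb, hb'⟩
    refine ⟨fun u hu => by rw [mul_smul, hb u hu, ha u hu], fun m => ?_⟩
    have e : (a * b) • m * m⁻¹ = (a • ((b • m) * m⁻¹)) * ((a • m) * m⁻¹) := by
      rw [mul_smul, smul_mul', smul_inv', mul_assoc, ← mul_assoc (a • m)⁻¹, inv_mul_cancel, one_mul]
    rw [e, ha _ (hb' m)]
    exact mul_mem (hb' m) (ha' m)
  inv_mem' := by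
    rintro a ⟨ha, ha'⟩
    have h1 : ∀ u ∈ U, a⁻¹ • u = u := fun u hu => by rw [inv_smul_eq_iff]; exact (ha u hu).symm
    refine ⟨h1, fun m => ?_⟩
    have h2 := h1 _ (inv_mem (ha' m))
    rw [mul_inv_rev, inv_inv, smul_mul', smul_inv', inv_smul_smul] at h2
    rw [h2]
    have h3 := inv_mem (ha' m)
    rwa [mul_inv_rev, inv_inv] at h3

theorem mem_BB {U : Subgroup M} {h : H} : h ∈ BB U ↔ (∀ u ∈ U, h • u = u) ∧ ∀ m : M, (h • m) * m⁻¹ ∈ U := Iff.rfl

end abs

variable {G X L : Type*} [Group G] [MulAction G X] [MulAction G L]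
variable {inc : X → L → Prop} {R W : X → Subgroup G} {V : L → Subgroup G} {s t n : ℕ}
variable {H M K : Type*} [Group H] [CommGroup M] [MulDistribMulAction H M] [CommGroup K]

/-- **The whole input of FarQ.** -/
structure Frm (inc : X → L → Prop) (R W : X → Subgroup G) (V : L → Subgroup G) (p : X) (l : L) (Sy : Subgroup G)
    (ρ : G → H) (π : G → M) (ζ : K →* G) (T : Subgroup H) (lam U : Subgroup M) (Kh : Subgroup (M →* K)) : Prop
    extends RD inc R W V p l Sy ρ π ζ T lam U Kh where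
  fl : ∀ x m, inc x m → ∃ g : G, x = g • p ∧ m = g • l
  cl : ∀ m, inc p m → ∃ c ∈ centralizer (R p : Set G), m = c • l
  no : NoOv (H := H) lam
  /-- (F2') -/
  f2 : ∀ u, (∀ y, inc y l → u ∈ W y) → u ∉ V l → ∀ y, inc y l → ∀ r ∈ R y,
    ∃ k ∈ centralizer (V l : Set G), (∀ w ∈ W y, k * w * k⁻¹ * w⁻¹ ∈ R y) ∧ k * u * k⁻¹ * u⁻¹ = r

namespace Frm

variable {p : X} {l : L} {Sy : Subgroup G} {ρ : G → H} {π : G → M} {ζ : K →* G} {T : Subgroup H}
  {lam U : Subgroup M} {Kh : Subgroup (M →* K)}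

/-- Transport. -/
theorem smul (D : Geom inc R W V s t) (F : Frm inc R W V p l Sy ρ π ζ T lam U Kh) (g : G) :
    Frm inc R W V (g • p) (g • l) (Sy.map (MulAut.conj g).toMonoidHom) (fun a => ρ (g⁻¹ * a * g))
      (fun w => π (g⁻¹ * w * g)) ((MulAut.conj g).toMonoidHom.comp ζ) T lam U Kh where
  toRD := F.toRD.smul D g
  fl x m hxm := by
    obtain ⟨a, rfl, rfl⟩ := F.fl x m hxm
    exact ⟨a * g⁻¹, by rw [mul_smul, inv_smul_smul], by rw [mul_smul, inv_smul_smul]⟩
  cl m hm := by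
    have h1 := D.inc_smul g⁻¹ _ _ hm
    rw [inv_smul_smul] at h1
    obtain ⟨c, hc, h2⟩ := F.cl _ h1
    refine ⟨g * c * g⁻¹, ?_, ?_⟩
    · rw [mem_centralizer_iff] at hc ⊢
      intro r hr
      have h3 := hc _ ((D.R_smul_iff g).1 hr)
      calc r * (g * c * g⁻¹) = g * ((g⁻¹ * r * g) * c) * g⁻¹ := by group
        _ = g * (c * (g⁻¹ * r * g)) * g⁻¹ := by rw [h3]
        _ = g * c * g⁻¹ * r := by group
    · rw [mul_smul, mul_smul, inv_smul_smul, ← h2, smul_inv_smul]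
  no := F.no
  f2 u hu huV y hy r hr := by
    have mV : ∀ {a : G}, a ∈ V (g • l) ↔ g⁻¹ * a * g ∈ V l := by
      intro a
      constructor
      · intro h
        have := D.V_smul g⁻¹ _ a h
        rwa [inv_smul_smul, inv_inv] at this
      · intro h
        have := D.V_smul g _ _ h
        have e : g * (g⁻¹ * a * g) * g⁻¹ = a := by group
        rwa [e] at this
    have hi : inc (g⁻¹ • y) l := by
      have h1 := D.inc_smul g⁻¹ _ _ hy
      rwa [inv_smul_smul] at h1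
    have hW : ∀ {z : X} {a : G}, g⁻¹ * a * g ∈ W (g⁻¹ • z) ↔ a ∈ W z := by
      intro z a
      have := D.W_smul_iff g (x := g⁻¹ • z) (a := a)
      rw [smul_inv_smul] at this
      exact this.symm
    have hR : ∀ {z : X} {a : G}, g⁻¹ * a * g ∈ R (g⁻¹ • z) ↔ a ∈ R z := by
      intro z a
      have := D.R_smul_iff g (x := g⁻¹ • z) (a := a)
      rw [smul_inv_smul] at this
      exact this.symm
    obtain ⟨k, hk, hk1, hk2⟩ := F.f2 (g⁻¹ * u * g) (fun z hz => by
      have h1 := D.inc_smul g _ _ hz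
      have h2 := hu _ h1
      exact (D.W_smul_iff g).1 h2) (fun e => huV (mV.2 e)) _ hi _ (hR.2 hr)
    refine ⟨g * k * g⁻¹, ?_, fun w hw => ?_, ?_⟩
    · rw [mem_centralizer_iff] at hk ⊢
      intro v hv
      have h3 := hk _ (mV.1 hv)
      calc v * (g * k * g⁻¹) = g * ((g⁻¹ * v * g) * k) * g⁻¹ := by group
        _ = g * (k * (g⁻¹ * v * g)) * g⁻¹ := by rw [h3]
        _ = g * k * g⁻¹ * v := by group
    · have h1 := hk1 _ (hW.2 hw)
      rw [← hR (z := y)]
      have e : g⁻¹ * (g * k * g⁻¹ * w * (g * k * g⁻¹)⁻¹ * w⁻¹) * g =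
          k * (g⁻¹ * w * g) * k⁻¹ * (g⁻¹ * w * g)⁻¹ := by group
      rwa [e]
    · calc g * k * g⁻¹ * u * (g * k * g⁻¹)⁻¹ * u⁻¹
          = g * (k * (g⁻¹ * u * g) * k⁻¹ * (g⁻¹ * u * g)⁻¹) * g⁻¹ := by group
        _ = r := by rw [hk2]; group

/-- **(NO) for all flags.** -/
theorem noOver [Finite G] (D : Geom inc R W V s t) (F : Frm inc R W V p l Sy ρ π ζ T lam U Kh) :
    NoOver inc R W V := FarQ.noOver D F.toRF F.fl F.no

/-- **every flag is realised, with the same `(H, M, T, lam, U)`** -/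
theorem at_flag (D : Geom inc R W V s t) (F : Frm inc R W V p l Sy ρ π ζ T lam U Kh) {x : X} {m : L} (hxm : inc x m) :
    ∃ (Sy' : Subgroup G) (ρ' : G → H) (π' : G → M) (ζ' : K →* G), Frm inc R W V x m Sy' ρ' π' ζ' T lam U Kh := by
  obtain ⟨g, rfl, rfl⟩ := F.fl x m hxm
  exact ⟨_, _, _, _, F.smul D g⟩

/-- `V_l = R_x R_y` on every line -/
theorem line_all (D : Geom inc R W V s t) (F : Frm inc R W V p l Sy ρ π ζ T lam U Kh) :
    ∀ m x y, inc x m → inc y m → x ≠ y → ∀ v ∈ V m, ∃ r ∈ R x, ∃ r' ∈ R y, v = r * r' := by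
  intro m x y hx hy hne v hv
  obtain ⟨_, _, _, _, F'⟩ := F.at_flag D hx
  exact F'.line y hy hne.symm v hv

end Frm

end Cfsg.Agent.Omega.NO3S.FarQ.Free
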