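import Cfsg.Agent.Omega.NO3S.FarQ.Free.Canon
import Cfsg.Agent.Omega.NO3S.FarQ.Real

/-!
# FarQ K-free, piece (Z) (helper238 #19123): the instance

* `U_inv` : `C_H(lam)` normalises `U`;
* `exists_js` : `PL S P V Z`, (F1), (T6): every realised flag has `JS lam U J`, `J = ρ(X_l ∩ C_G(V_l))`,
  `X_l = ⟨K_y | y ∈ l⟩` (`PointFTwo.F2`).
-/

set_option autoImplicit false
set_option linter.unusedSectionVars false

namespace Cfsg.Agent.Omega.NO3S.FarQ.Free.CanonOf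

open Subgroup Cfsg Cfsg.Agent.ZN Cfsg.Agent.MinSimple.VModule Cfsg.Agent.Omega.NOThree.Pts
open Cfsg.Agent.Omega.NO3S.FarQ Cfsg.Agent.Omega.NO3S.FarQ.Glue Cfsg.Agent.Omega.NO3S.PT Cfsg.Agent.Omega.NO3S.PtGeom
open Cfsg.Agent.Omega.NO3S.FarQ.Free.Canon
open scoped Pointwise

section geo

variable {G X L : Type*} [Group G] [MulAction G X] [MulAction G L]
variable {inc : X → L → Prop} {R W : X → Subgroup G} {V : L → Subgroup G} {s t : ℕ}
variable {H M : Type*} [Group H] [CommGroup M] [MulDistribMulAction H M]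
variable {p : X} {l : L} {ρ : G → H} {π : G → M} {lam U : Subgroup M}

/-- **`C_H(lam)` normalises `U`.** -/
theorem U_inv (D : Geom inc R W V s t) (F : RF inc R W V p l ρ π lam U) :
    ∀ h ∈ fixer (H := H) lam, ∀ u ∈ U, h • u ∈ U := by
  intro h hh u hu
  obtain ⟨g, hg, rfl⟩ := F.cov h hh
  obtain ⟨w, hw, hwy, rfl⟩ := (F.mU u).1 hu
  have hgR : g ∈ centralizer (R p : Set G) := centralizer_le (D.R_le p l F.pl) hg
  have hfix : ∀ y, inc y l → g • y = y := fun y hy => D.fix_of_centralizes fun a ha =>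
    (mem_centralizer_iff.1 hg a (D.R_le y l hy ha)).symm
  rw [← F.re.act g hgR w hw]
  exact (F.mU _).2 ⟨_, D.norm_W (hfix p F.pl) hw, fun y hy => D.norm_W (hfix y hy) (hwy y hy), rfl⟩

end geo

universe u

variable {G : Type u} [Group G] [Finite G] {S : Sylow 2 G} {P V Z : Subgroup G} (h : PL S P V Z)
variable {H M : Type*} [Group H] [CommGroup M] [MulDistribMulAction H M]
variable {ρ : G → H} {π : G → M} {lam U : Subgroup M}
include h

theorem exists_js_base (hf : ¬ kx V Z ≤ centralizer (V : Set G)) (hO : OmQ S V)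
    (F : RF (inc (Z := Z) (V := V)) (fun x => x.sg) (fun x => ws V x.sg) (fun l => l.sg) (Pt.base Z) (Pt.base V)
      ρ π lam U) : ∃ J : Subgroup H, JS lam U J ∧ ∀ c ∈ fixer (H := H) lam, ∀ j ∈ J, c * j * c⁻¹ ∈ J := by
  have hA : XV V Z ⊓ centralizer (V : Set G) ≤ centralizer (Z : Set G) :=
    inf_le_right.trans (centralizer_le h.ZV)
  have hVW : V ≤ ws V Z := h.V_le_ws h.ZV
  have D := geom h hf hO
  have hIV : ∀ u ∈ ws V Z, (∀ y : Pt Z, inc y (Pt.base V) → u ∈ ws V y.sg) → u ∈ IV V Z := by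
    intro u _ hu'
    rw [IV, Subgroup.mem_sInf]
    rintro _ ⟨Y, hY, hYV, rfl⟩
    exact hu' (Pt.mk hY) hYV
  have hCV : centralizer (V : Set G) ≤ centralizer (Z : Set G) := centralizer_le h.ZV
  refine ⟨im F.re (XV V Z ⊓ centralizer (V : Set G)) hA, ⟨?_, ?_, ?_⟩, ?_⟩
  · rintro _ ⟨c, hc, rfl⟩ a ha
    obtain ⟨v, hv, rfl⟩ := (F.mlam a).1 ha
    rw [← F.re.act c (hA hc) v (hVW hv)]
    have h1 := mem_centralizer_iff.1 hc.2 v hv
    rw [← h1, mul_inv_cancel_right]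
  · rintro _ ⟨c, hc, rfl⟩ u hu
    obtain ⟨w, hw, hwy, rfl⟩ := (F.mU u).1 hu
    rw [← π_comm F.re D (hA hc) hw]
    exact (F.mlam _).2 ⟨_, h.XV_act hc.1 (hIV w hw hwy), rfl⟩
  · intro u hu hul a ha
    obtain ⟨w, hw, hwy, rfl⟩ := (F.mU u).1 hu
    obtain ⟨v, hv, rfl⟩ := (F.mlam a).1 ha
    have hwV : w ∉ V := fun e => hul ((F.mlam _).2 ⟨w, e, rfl⟩)
    obtain ⟨c, hc, hcV, hcu⟩ := h.F2 hf hO (hIV w hw hwy) hwV hv
    refine ⟨ρ c, ⟨c, ⟨hc, hcV⟩, rfl⟩, ?_⟩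
    rw [← F.re.act c (hA ⟨hc, hcV⟩) w hw]
    have e : c * w * c⁻¹ = v * w := by rw [← hcu]; group
    rw [e, F.re.pmul v (hVW hv) w hw, mul_comm]
  · rintro c hc _ ⟨j, hj, rfl⟩
    obtain ⟨g, hg, rfl⟩ := F.cov c hc
    have hg' : g ∈ normalizer (V : Set G) := centralizer_le_normalizer _ hg
    refine ⟨g * j * g⁻¹, Subgroup.mem_inf.2 ⟨?_, mul_mem (mul_mem hg (Subgroup.mem_inf.1 hj).2) (inv_mem hg)⟩,
      F.re.conj (hCV hg) (hA hj)⟩
    exact (mem_normalizer_iff.1 (normalizer_le_XV V Z hg') j).1 (Subgroup.mem_inf.1 hj).1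

/-- **`JS` at every realised flag.** -/
theorem exists_js (hf : ¬ kx V Z ≤ centralizer (V : Set G)) (hO : OmQ S V) {x : Pt Z} {l : Pt V}
    (F : RF (inc (Z := Z) (V := V)) (fun x => x.sg) (fun x => ws V x.sg) (fun l => l.sg) x l ρ π lam U) :
    ∃ J : Subgroup H, JS lam U J ∧ ∀ c ∈ fixer (H := H) lam, ∀ j ∈ J, c * j * c⁻¹ ∈ J := by
  have D := geom h hf hO
  obtain ⟨g, hx, hl⟩ := exists_smul_flag h F.pl
  have F' := F.smul D g⁻¹
  rw [hx, hl, inv_smul_smul, inv_smul_smul] at F'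
  exact exists_js_base h hf hO F'

end Cfsg.Agent.Omega.NO3S.FarQ.Free.CanonOf
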