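import Cfsg.Agent.Omega.NOThree.LemmaMPlus

/-!
# FarQ (`q ≥ 4`, `n ≥ 3`), K-free: goal pairs, movers, children, the GRANDCHILD LEMMA

TEXT: helper975 #18157 sections 2, 3, for all `q` helper404 #18922 sections 4, 5, helper937 #18718 section 4.
Abstract form over `NOThree.Pts.Geom` (any `s`), `n = k + 1`.

* `Pth k y` : `(y 0, y (k+1))` is a critical pair and `y 0, …, y (k+1)` a geodesic; `GG k y` : a goal pair (type I,
  `[W_{y 0}, W_{y (k+1)}] ≤ W_{y 1}`);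
* `Mv k y x f` : a mover: `x ∼ y 0`, `f ∈ W_{y (k+1)}` moves `x`, `C(f) ∩ W_x ∩ W_{y 0} ≤ W_{y 1}`;
  `DD` : (D);
* `two_two`, `two_two'` : (2.2); `second` : the second geodesic of (2.1); `grand` : the GRANDCHILD LEMMA;
* `no_goal` : no goal pair, from `HD` (every goal pair has a mover with (D)), `HT` (terminal pairs), `HS`
  (THEOREM SUM / THEOREM ONE).
-/

set_option autoImplicit false
set_option linter.unusedSectionVars false

namespace Cfsg.Agent.Omega.NO3S.FarQ.Free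

open Subgroup Cfsg Cfsg.Agent.ZN Cfsg.Agent.MinSimple.VModule Cfsg.Agent.Omega.NOThree.Pts
open Cfsg.Agent.Omega.NOThree.LemmaM Cfsg.Agent.Omega.NOThree.LemmaMPlus

variable {G X L : Type*} [Group G] [MulAction G X] [MulAction G L]
variable {inc : X → L → Prop} {R W : X → Subgroup G} {V : L → Subgroup G} {s t k : ℕ}

/-- collinear (or equal) points -/
def Col (inc : X → L → Prop) (x y : X) : Prop := ∃ l, inc x l ∧ inc y l

theorem Col.symm {x y : X} (h : Col inc x y) : Col inc y x := by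
  obtain ⟨l, h1, h2⟩ := h
  exact ⟨l, h2, h1⟩

theorem Col.walk {x y : X} (h : Col inc x y) : Walk inc 1 x y := by
  obtain ⟨l, h1, h2⟩ := h
  exact Walk.one h1 h2

/-- `(y 0, y (k+1))` is critical, with the geodesic `y`. -/
structure Pth (inc : X → L → Prop) (W : X → Subgroup G) (k : ℕ) (y : ℕ → X) : Prop where
  crit : Crit inc W (k + 1) (y 0) (y (k + 1))
  col : ∀ i ≤ k, Col inc (y i) (y (i + 1))

/-- **A goal pair** with the geodesic `y`. -/
structure GG (inc : X → L → Prop) (R W : X → Subgroup G) (k : ℕ) (y : ℕ → X) : Prop extends Pth inc W k y where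
  t1 : ∀ u ∈ R (y 0), u ∈ W (y (k + 1)) → u = 1
  t2 : ∀ u ∈ R (y (k + 1)), u ∈ W (y 0) → u = 1
  low : ∀ a ∈ W (y 0), ∀ b ∈ W (y (k + 1)), a * b * a⁻¹ * b⁻¹ ∈ W (y 1)

/-- `x` in front of `y` -/
def ch (x : X) (y : ℕ → X) : ℕ → X
  | 0 => x
  | (i + 1) => y i

@[simp] theorem ch_zero (x : X) (y : ℕ → X) : ch x y 0 = x := rfl
@[simp] theorem ch_succ (x : X) (y : ℕ → X) (i : ℕ) : ch x y (i + 1) = y i := rfl

/-- **A mover** of the critical pair `(y 0, y (k+1))` with the geodesic `y`. -/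
structure Mv (inc : X → L → Prop) (W : X → Subgroup G) (k : ℕ) (y : ℕ → X) (x : X) (f : G) : Prop where
  mem : f ∈ W (y (k + 1))
  col : Col inc x (y 0)
  fx : f • x ≠ x
  cen : ∀ u ∈ W x, u ∈ W (y 0) → f * u = u * f → u ∈ W (y 1)

/-- (D) -/
def DD (W : X → Subgroup G) (y : ℕ → X) (x : X) (f : G) : Prop := ∀ a ∈ W x, a ∈ W (f • x) → a ∈ W (y 0)

/-- `[W_{y 0}, W_{y (k+1)}]` -/
def rr (W : X → Subgroup G) (k : ℕ) (y : ℕ → X) : Subgroup G :=
  closure {c | ∃ a ∈ W (y 0), ∃ b ∈ W (y (k + 1)), c = a * b * a⁻¹ * b⁻¹}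

theorem comm_mem_rr {y : ℕ → X} {a b : G} (ha : a ∈ W (y 0)) (hb : b ∈ W (y (k + 1))) :
    a * b * a⁻¹ * b⁻¹ ∈ rr W k y := subset_closure ⟨a, ha, b, hb, rfl⟩

theorem rr_le {y : ℕ → X} {A : Subgroup G} (h : ∀ a ∈ W (y 0), ∀ b ∈ W (y (k + 1)), a * b * a⁻¹ * b⁻¹ ∈ A) :
    rr W k y ≤ A := by
  rw [rr, closure_le]
  rintro _ ⟨a, ha, b, hb, rfl⟩
  exact h a ha b hb

namespace Pth

variable {y : ℕ → X}

theorem wk (h : Pth inc W k y) : ∀ d i, i + d ≤ k + 1 → Walk inc d (y i) (y (i + d)) := by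
  intro d
  induction d with
  | zero => intro i _; exact Walk.zero _
  | succ d ih =>
    intro i hi
    obtain ⟨l, h1, h2⟩ := h.col (i + d) (by omega)
    exact (ih i (by omega)).step h1 h2

theorem wk' (h : Pth inc W k y) {i j : ℕ} (hij : i ≤ j) (hj : j ≤ k + 1) : Walk inc (j - i) (y i) (y j) := by
  have := h.wk (j - i) i (by omega)
  rwa [show i + (j - i) = j by omega] at this

/-- no shorter walk between two points of the geodesic -/
theorem dist (h : Pth inc W k y) {i j d : ℕ} (hij : i ≤ j) (hj : j ≤ k + 1) (hd : d < j - i) :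
    ¬ Walk inc d (y i) (y j) := by
  intro hw
  have h1 := h.wk' (Nat.zero_le i) (by omega : i ≤ k + 1)
  have h2 := h.wk' hj le_rfl
  exact h.crit.not_walk (k := i - 0 + d + (k + 1 - j)) (by omega) ((h1.trans hw).trans h2)

theorem ne_succ (h : Pth inc W k y) {i : ℕ} (hi : i ≤ k) : y i ≠ y (i + 1) := by
  intro e
  exact h.dist (i := i) (j := i + 1) (d := 0) (by omega) (by omega) (by omega) (by rw [← e]; exact Walk.zero _)

end Pth

section geo

variable (D : Geom inc R W V s t)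
include D

theorem R_le_of_col {x y : X} (h : Col inc x y) : R x ≤ W y := by
  obtain ⟨l, h1, h2⟩ := h
  exact (D.R_le x l h1).trans (D.V_le y l h2)

/-- an element of two points is trivial -/
theorem on_line {x : X} {l : L} {u : G} (hu : u ∈ R x) (hu1 : u ≠ 1) (hV : u ∈ V l) : inc x l := by
  obtain ⟨z, hz, huz⟩ := D.cover l u hV
  rwa [D.ti x z u hu huz hu1]

/-- **(F2) as transfer of collinearity** -/
theorem col_trans {x y z e : X} {l : L} (hx : inc x l) (hy : inc y l) (hz : inc z l) (hxy : x ≠ y) {u : G}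
    (hu : u ∈ R e) (hu1 : u ≠ 1) (hux : u ∈ W x) (huy : u ∈ W y) (huV : u ∉ V l) (hc : Col inc e x) :
    Col inc e z := by
  obtain ⟨g, hg, -, hgx⟩ := D.F2 x y z l hx hy hz hxy u hux huy huV
  have hge := D.fix hu hu1 hg
  obtain ⟨m, h1, h2⟩ := hc
  refine ⟨g • m, ?_, ?_⟩
  · have := D.inc_smul g _ _ h1
    rwa [hge] at this
  · have := D.inc_smul g _ _ h2
    rwa [hgx] at this

variable (hL : ∀ l x y, inc x l → inc y l → x ≠ y → ∀ v ∈ V l, ∃ r ∈ R x, ∃ r' ∈ R y, v = r * r')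
include hL

/-- a line with two points collinear with `w` lies in `W_w` -/
theorem V_le_of_two {x y w : X} {l : L} (hx : inc x l) (hy : inc y l) (hxy : x ≠ y) (h1 : Col inc x w)
    (h2 : Col inc y w) : V l ≤ W w := by
  intro v hv
  obtain ⟨r, hr, r', hr', rfl⟩ := hL l x y hx hy hxy v hv
  exact mul_mem (R_le_of_col D h1 hr) (R_le_of_col D h2 hr')

/-- `a ∼ b ∼ c`, `R_c ≤ W_a` implies `a ∼ c` -/
theorem col_of_R_le {a b c : X} (hab : Col inc a b) (hne : a ≠ b) (hbc : Col inc b c) (h : R c ≤ W a) :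
    Col inc a c := by
  obtain ⟨l, h1, h2⟩ := hab
  obtain ⟨u, hu, hu1⟩ := D.exists_ne c
  by_cases hV : u ∈ V l
  · exact ⟨l, h1, on_line D hu hu1 hV⟩
  · exact (col_trans D h2 h1 h1 hne.symm hu hu1 (R_le_of_col D hbc.symm hu) (h hu) hV hbc.symm).symm

end geo

section chain

variable (D : Geom inc R W V s t)
  (hL : ∀ l x y, inc x l → inc y l → x ≠ y → ∀ v ∈ V l, ∃ r ∈ R x, ∃ r' ∈ R y, v = r * r')

include D in
/-- `f` commutes with `W_{y i}`, `1 ≤ i`. -/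
theorem Mv.comm {y : ℕ → X} {x : X} {f : G} (h : Pth inc W k y) (hm : Mv inc W k y x f) {i : ℕ} (hi : 1 ≤ i)
    (hi' : i ≤ k + 1) {a : G} (ha : a ∈ W (y i)) : f * a = a * f :=
  (h.crit.min (k + 1 - i) (by omega) _ _ (h.wk' hi' le_rfl)).symm f hm.mem a ha

include D in
theorem Mv.fix_zero {y : ℕ → X} {x : X} {f : G} (h : Pth inc W k y) (hm : Mv inc W k y x f) : f • y 0 = y 0 :=
  h.crit.symm.fix D (by omega) hm.mem

include D in
theorem Mv.ne {y : ℕ → X} {x : X} {f : G} (h : Pth inc W k y) (hm : Mv inc W k y x f) : x ≠ y 0 := by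
  rintro rfl
  exact hm.fx (hm.fix_zero D h)

include D in
/-- **(2.2)**: `W_x ∩ W_{y k} ≤ W_{y 0} ∩ W_{y 1}`. -/
theorem two_two {y : ℕ → X} {x : X} {f : G} (h : Pth inc W k y) (hk : 1 ≤ k) (hm : Mv inc W k y x f)
    (hD : DD W y x f) {c : G} (hc : c ∈ W x) (hc' : c ∈ W (y k)) : c ∈ W (y 0) ∧ c ∈ W (y 1) := by
  have h1 : f * c = c * f := hm.comm D h hk (by omega) hc'
  have h2 : c ∈ W (f • x) := by
    have := D.W_smul f x c hc
    rwa [h1, mul_inv_cancel_right] at this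
  have h3 := hD c hc h2
  exact ⟨h3, hm.cen c hc h3 h1⟩

include D in
/-- the walk-distance from `x` of a child -/
theorem not_col_one {y : ℕ → X} {x : X} (hz : Pth inc W k (ch x y)) (hk : 1 ≤ k) : ¬ Col inc x (y 1) := by
  intro hc
  exact hz.dist (i := 0) (j := 2) (d := 1) (by omega) (by omega) (by omega) hc.walk

include D hL in
/-- **(2.2')**: an element of `W_x ∩ W_{y k}` in the line `x, y 0` lies in `R_{y 0}`. -/
theorem two_two' {y : ℕ → X} {x : X} {f : G} (h : Pth inc W k y) (hk : 1 ≤ k) (hm : Mv inc W k y x f)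
    (hD : DD W y x f) (hz : Pth inc W k (ch x y)) (t1 : ∀ u ∈ R x, u ∈ W (y k) → u = 1) {c : G} {m : L}
    (hxm : inc x m) (hym : inc (y 0) m) (hc : c ∈ W x) (hc' : c ∈ W (y k)) (hcm : c ∈ V m) : c ∈ R (y 0) := by
  by_cases hc1 : c = 1
  · rw [hc1]; exact one_mem _
  obtain ⟨h0, h1⟩ := two_two D h hk hm hD hc hc'
  obtain ⟨e, he, hce⟩ := D.cover m c hcm
  by_cases hey : e = y 0
  · rwa [hey] at hce
  exfalso
  have hex : e ≠ x := by
    rintro rfl
    exact hc1 (t1 c hce hc')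
  have hxy : x ≠ y 0 := hm.ne D h
  obtain ⟨l, hl0, hl1⟩ := h.col 0 (Nat.zero_le _)
  have h01 : y 0 ≠ y 1 := h.ne_succ (Nat.zero_le _)
  have hnc := not_col_one D hz hk
  -- `y 1` is not on `m`
  have hy1m : ¬ inc (y 1) m := fun e1 => hnc ⟨m, hxm, e1⟩
  by_cases hcl : c ∈ V l
  · -- `e` on `l`: the two lines coincide
    have hel : inc e l := on_line D hce hc1 hcl
    obtain ⟨v, hv, hv1⟩ := D.exists_ne x
    have hvl : v ∈ V l := by
      obtain ⟨r, hr, r', hr', rfl⟩ := hL m e (y 0) he hym hey v (D.R_le x m hxm hv)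
      exact mul_mem (D.R_le e l hel hr) (D.R_le _ l hl0 hr')
    exact hnc ⟨l, on_line D hv hv1 hvl, hl1⟩
  · have h2 : Col inc e (y 1) := col_trans D hl0 hl1 hl1 h01 hce hc1 h0 h1 hcl ⟨m, he, hym⟩
    obtain ⟨z, hz1, hz2⟩ := D.exists_ne (y 1)
    have hzm : z ∉ V m := fun e1 => hy1m (on_line D hz1 hz2 e1)
    exact hnc (col_trans D hym he hxm (Ne.symm hey) hz1 hz2 (R_le_of_col D ⟨l, hl1, hl0⟩ hz1)
      (R_le_of_col D h2.symm hz1) hzm ⟨l, hl1, hl0⟩).symm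

include D in
/-- **The second geodesic of (2.1)**: `1 ≠ u ∈ R_e ∩ W_{y (k+1)} ∩ W_{y k}`, `e` on the line `y 0, y 1`. -/
theorem second {y : ℕ → X} (h : GG inc R W k y) (hk : 2 ≤ k) {e : X} {l : L} {u : G} (h0 : inc (y 0) l)
    (h1 : inc (y 1) l) (he : inc e l) (hu : u ∈ R e) (hu1 : u ≠ 1) (hun : u ∈ W (y (k + 1))) (huk : u ∈ W (y k)) :
    e ≠ y 0 ∧ e ≠ y 1 ∧ ∃ y' : ℕ → X, y' 0 = y 0 ∧ y' 1 = e ∧ y' (k + 1) = y (k + 1) ∧ GG inc R W k y' := by
  have he0 : e ≠ y 0 := by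
    rintro rfl
    exact hu1 (h.t1 u hu hun)
  obtain ⟨m, hmk, hmn⟩ := h.col k le_rfl
  have hkn : y k ≠ y (k + 1) := h.toPth.ne_succ le_rfl
  have huV : u ∉ V m := by
    intro hV
    have hem := on_line D hu hu1 hV
    exact h.crit.not_walk (k := 2) (by omega) ((Walk.one h0 he).step hem hmn)
  obtain ⟨g, hg, -, hgk⟩ := D.F2 (y k) (y (k + 1)) (y (k + 1)) m hmk hmn hmn hkn u huk hun huV
  have hge := D.fix hu hu1 hg
  have he1 : e ≠ y 1 := by
    rintro rfl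
    have h2 : Walk inc (k - 1) (y 1) (y k) := h.toPth.wk' (by omega) (by omega)
    have h3 := h2.smul D g
    rw [hge, hgk] at h3
    have h4 := (Walk.one h0 he).trans h3
    exact h.crit.not_walk (k := 1 + (k - 1)) (by omega) h4
  refine ⟨he0, he1, fun i => match i with
    | 0 => y 0
    | 1 => e
    | (j + 2) => g • y (j + 1), rfl, rfl, ?_, ?_⟩
  · obtain ⟨j, rfl⟩ : ∃ j, k = j + 1 := ⟨k - 1, by omega⟩
    exact hgk
  · obtain ⟨j, rfl⟩ : ∃ j, k = j + 1 := ⟨k - 1, by omega⟩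
    have hend : g • y (j + 1) = y (j + 1 + 1) := hgk
    refine { crit := ?_, col := ?_, t1 := ?_, t2 := ?_, low := ?_ }
    · show Crit inc W (j + 1 + 1) (y 0) (g • y (j + 1))
      rw [hend]; exact h.crit
    · intro i hi
      match i with
      | 0 => exact ⟨l, h0, he⟩
      | 1 =>
        show Col inc e (g • y 1)
        refine ⟨g • l, ?_, D.inc_smul g _ _ h1⟩
        have := D.inc_smul g _ _ he
        rwa [hge] at this
      | (i + 2) =>
        show Col inc (g • y (i + 1)) (g • y (i + 1 + 1))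
        obtain ⟨l', a1, a2⟩ := h.col (i + 1) (by omega)
        exact ⟨g • l', D.inc_smul g _ _ a1, D.inc_smul g _ _ a2⟩
    · show ∀ u ∈ R (y 0), u ∈ W (g • y (j + 1)) → u = 1
      rw [hend]; exact h.t1
    · show ∀ u ∈ R (g • y (j + 1)), u ∈ W (y 0) → u = 1
      rw [hend]; exact h.t2
    · show ∀ a ∈ W (y 0), ∀ b ∈ W (g • y (j + 1)), a * b * a⁻¹ * b⁻¹ ∈ W e
      rw [hend]
      intro a ha b hb
      refine D.inf_le h0 h1 he (h.toPth.ne_succ (Nat.zero_le _)) ⟨?_, h.low a ha b hb⟩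
      have e2 : a * b * a⁻¹ * b⁻¹ = a * (b * a⁻¹ * b⁻¹) := by group
      rw [e2]
      exact mul_mem ha (D.norm_W (h.crit.symm.fix D (by omega) hb) (inv_mem ha))

include D hL in
/-- **GRANDCHILD LEMMA.** `(x₁, f₁)` a mover with (D) of `y`, `(x₂, f₂)` a mover with (D) of `(x₁, y)`: an element
`c ≠ 1` of `W_{x₂} ∩ W_{y (k-1)}` lies in no point `e ∼ x₂`. -/
theorem grand {y : ℕ → X} {x₁ x₂ : X} {f₁ f₂ : G} {j : ℕ} (hj : 1 ≤ j) (h : Pth inc W (j + 1) y)
    (m1 : Mv inc W (j + 1) y x₁ f₁) (d1 : DD W y x₁ f₁) (g1 : GG inc R W (j + 1) (ch x₁ y))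
    (m2 : Mv inc W (j + 1) (ch x₁ y) x₂ f₂) (d2 : DD W (ch x₁ y) x₂ f₂)
    (g2 : GG inc R W (j + 1) (ch x₂ (ch x₁ y))) {c : G} (hc : c ∈ W x₂) (hc' : c ∈ W (y j)) (hc1 : c ≠ 1)
    {e : X} (he : c ∈ R e) (hcol : Col inc e x₂) : False := by
  have hc0 : c ∈ W x₁ ∧ c ∈ W (y 0) := two_two D g1.toPth (by omega) m2 d2 hc (show c ∈ W (ch x₁ y (j + 1)) from hc')
  obtain ⟨hx1, hy0⟩ := hc0
  have hf1 : f₁ * c = c * f₁ := m1.comm D h (i := j) hj (by omega) hc'
  have hy1 : c ∈ W (y 1) := m1.cen c hx1 hy0 hf1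
  -- `c` is not in the line `x₂ x₁`
  obtain ⟨m, hm2, hm1⟩ : Col inc x₂ x₁ := m2.col
  have hx21 : x₂ ≠ x₁ := m2.ne D g1.toPth
  have hcm : c ∉ V m := by
    intro hV
    have h3 : c ∈ R x₁ := two_two' D hL g1.toPth (by omega) m2 d2 g2.toPth (fun u hu hu' => g2.t1 u hu hu') hm2 hm1 hc
      (show c ∈ W (ch x₁ y (j + 1)) from hc') hV
    exact m1.fx (D.fix h3 hc1 hf1)
  have hnR1 : c ∉ R x₁ := fun h3 => hcm (D.R_le x₁ m hm1 h3)
  have hex1 : e ≠ x₁ := by rintro rfl; exact hnR1 he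
  -- distances
  have n20 : ¬ Col inc x₂ (y 0) := fun hcc =>
    g2.toPth.dist (i := 0) (j := 2) (d := 1) (by omega) (by omega) (by omega) hcc.walk
  have n11 : ¬ Col inc x₁ (y 1) := fun hcc =>
    g1.toPth.dist (i := 0) (j := 2) (d := 1) (by omega) (by omega) (by omega) hcc.walk
  -- `e ∼ x₁`
  have c1 : Col inc e x₁ := col_trans D hm2 hm1 hm1 hx21 he hc1 hc hx1 hcm hcol
  -- `e ∼ y 0`
  obtain ⟨l1, hl1x, hl1y⟩ : Col inc x₁ (y 0) := m1.col
  have hx10 : x₁ ≠ y 0 := m1.ne D h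
  have hcl1 : c ∉ V l1 := by
    intro hV
    have hel := on_line D he hc1 hV
    have h4 : V l1 ≤ W x₂ := V_le_of_two D hL hel hl1x hex1 hcol ⟨m, hm1, hm2⟩
    exact n20 (col_of_R_le D hL ⟨m, hm2, hm1⟩ hx21 ⟨l1, hl1x, hl1y⟩ ((D.R_le _ l1 hl1y).trans h4))
  have c2 : Col inc e (y 0) := col_trans D hl1x hl1y hl1y hx10 he hc1 hx1 hy0 hcl1 c1
  -- `e ∼ y 1`
  obtain ⟨l2, hl20, hl21⟩ := h.col 0 (Nat.zero_le _)
  have h01 : y 0 ≠ y 1 := h.ne_succ (Nat.zero_le _)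
  have he0 : e ≠ y 0 := by
    rintro rfl
    exact n20 hcol.symm
  have hcl2 : c ∉ V l2 := by
    intro hV
    have hel := on_line D he hc1 hV
    have h4 : V l2 ≤ W x₁ := V_le_of_two D hL hel hl20 he0 c1 ⟨l1, hl1y, hl1x⟩
    exact n11 (col_of_R_le D hL ⟨l1, hl1x, hl1y⟩ hx10 ⟨l2, hl20, hl21⟩ ((D.R_le _ l2 hl21).trans h4))
  have c3 : Col inc e (y 1) := col_trans D hl20 hl21 hl21 h01 he hc1 hy0 hy1 hcl2 c2
  -- the short walk
  have w1 : Walk inc (j - 1) (y 1) (y j) := h.wk' hj (by omega)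
  have w2 := (hcol.symm.walk.trans c3.walk).trans w1
  exact g2.toPth.crit.not_walk (k := 1 + 1 + (j - 1)) (by omega) w2

end chain

/-! ### The assembly -/

section asm

variable [Finite G] (D : Geom inc R W V s t)
  (hL : ∀ l x y, inc x l → inc y l → x ≠ y → ∀ v ∈ V l, ∃ r ∈ R x, ∃ r' ∈ R y, v = r * r')
  (hNO : NoOver inc R W V)

/-- a child: `x` in front of the critical path `y` -/
structure Child (inc : X → L → Prop) (R W : X → Subgroup G) (k : ℕ) (y : ℕ → X) (x : X) (f : G) : Prop where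
  pth : Pth inc W k y
  mv : Mv inc W k y x f
  dd : DD W y x f
  gg : GG inc R W k (ch x y)

include D hNO in
/-- **The alternative** for a mover with (D). -/
theorem alt {y : ℕ → X} {x : X} {f : G} (h : Pth inc W k y) (hk : 2 ≤ k) (hm : Mv inc W k y x f) (hD : DD W y x f) :
    Child inc R W k y x f ∨ ((∀ u ∈ R (y 0), u ∈ W (y (k + 1)) → u = 1) ∧ Com W x (y k) ∧
      ∀ a ∈ W (y 0), ∀ b ∈ W (y (k + 1)), a * b * a⁻¹ * b⁻¹ ∈ W (y k)) := by
  obtain ⟨m, hxm, hym⟩ := hm.col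
  obtain ⟨l, hlk, hln⟩ := h.col k le_rfl
  have hw : Walk inc (k + 1 - 1) (y 0) (y k) := by
    have := h.wk' (Nat.zero_le k) (Nat.le_succ k)
    simpa using this
  have hM : MDat inc R W V s t (k + 1) (y 0) (y (k + 1)) (y k) x l m f :=
    ⟨D, by omega, h.crit, hw, hlk, hln, hxm, hym, hm.mem, hm.fx, hD⟩
  by_cases hc : Com W x (y k)
  · right
    exact ⟨(hM.beta hc hNO).2.1, hc, plus hM hc hNO⟩
  · left
    obtain ⟨h1, h2, h3, h4⟩ := hM.alpha hc
    refine ⟨h, hm, hD, ?_⟩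
    refine { crit := h1, col := ?_, t1 := h2, t2 := h3, low := fun a ha b hb => (h4 a ha b hb).2 }
    intro i hi
    match i with
    | 0 => exact hm.col
    | (i + 1) => exact h.col i (by omega)

/-- every goal pair has a mover with (D) -/
def HD (inc : X → L → Prop) (R W : X → Subgroup G) (k : ℕ) : Prop :=
  ∀ y : ℕ → X, GG inc R W k y → ∃ x f, Mv inc W k y x f ∧ DD W y x f

/-- terminal goal pairs: if no mover with (D) has a child, then `[W_{y 0}, W_{y (k+1)}]` meets `V_l` outside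
the trivial group, `l` any line on `y 0`, `y 1` -/
def HT (inc : X → L → Prop) (R W : X → Subgroup G) (V : L → Subgroup G) (k : ℕ) : Prop :=
  ∀ y : ℕ → X, GG inc R W k y → (∀ x f, Mv inc W k y x f → DD W y x f → Com W x (y k)) →
    ∃ l, inc (y 0) l ∧ inc (y 1) l ∧ ∃ u ∈ rr W k y, u ≠ 1 ∧ u ∈ V l

/-- THEOREM SUM / THEOREM ONE for goal pairs -/
def HS (inc : X → L → Prop) (R W : X → Subgroup G) (k : ℕ) : Prop :=
  ∀ y : ℕ → X, GG inc R W k y → ∃ u ∈ rr W k y, u ≠ 1 ∧ ∃ e, u ∈ R e ∧ Col inc e (y 0)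

include D in
theorem rr_le_last {y : ℕ → X} (h : Pth inc W k y) : rr W k y ≤ W (y (k + 1)) := rr_le fun a ha b hb =>
  (W _).mul_mem (D.norm_W (h.crit.fix D (by omega) ha) hb) ((W _).inv_mem hb)

include D in
theorem rr_le_zero {y : ℕ → X} (h : Pth inc W k y) : rr W k y ≤ W (y 0) := rr_le fun a ha b hb => by
  have e : a * b * a⁻¹ * b⁻¹ = a * (b * a⁻¹ * b⁻¹) := by group
  rw [e]
  exact mul_mem ha (D.norm_W (h.crit.symm.fix D (by omega) hb) (inv_mem ha))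

include D hL hNO in
/-- a child is not terminal -/
theorem child_child (hk : 2 ≤ k) (hD : HD inc R W k) (hT : HT inc R W V k) {y : ℕ → X} {x : X} {f : G}
    (h : Child inc R W k y x f) : ∃ x' f', Child inc R W k (ch x y) x' f' := by
  by_contra hcon
  push Not at hcon
  have key : ∀ x' f', Mv inc W k (ch x y) x' f' → DD W (ch x y) x' f' → Com W x' (ch x y k) ∧
      ∀ a ∈ W (ch x y 0), ∀ b ∈ W (ch x y (k + 1)), a * b * a⁻¹ * b⁻¹ ∈ W (ch x y k) := by
    intro x' f' h1 h2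
    rcases alt D hNO h.gg.toPth hk h1 h2 with h3 | h3
    · exact (hcon _ _ h3).elim
    · exact h3.2
  obtain ⟨x', f', h1, h2⟩ := hD _ h.gg
  have hR : rr W k (ch x y) ≤ W (ch x y k) := rr_le (key x' f' h1 h2).2
  obtain ⟨l, hl0, hl1, u, hu, hu1, huV⟩ := hT _ h.gg fun x' f' h1 h2 => (key x' f' h1 h2).1
  have hux : u ∈ W x := rr_le_zero D h.gg.toPth hu
  have huk : u ∈ W (y k) := rr_le_last D h.gg.toPth hu
  have huR : u ∈ R (y 0) := two_two' D hL h.pth (by omega) h.mv h.dd h.gg.toPth (fun v hv hv' => h.gg.t1 v hv hv')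
    hl0 hl1 hux huk huV
  exact (second D h.gg hk hl0 hl1 hl1 huR hu1 huk (hR hu)).2.1 rfl

include D hL hNO in
/-- **There is no goal pair.** -/
theorem no_goal (hk : 2 ≤ k) (hD : HD inc R W k) (hT : HT inc R W V k) (hS : HS inc R W k) {y : ℕ → X}
    (h : GG inc R W k y) : False := by
  -- some critical path has a child
  obtain ⟨y₀, x₁, f₁, c1⟩ : ∃ y₀ x₁ f₁, Child inc R W k y₀ x₁ f₁ := by
    by_contra hcon
    push Not at hcon
    have key : ∀ z : ℕ → X, GG inc R W k z → ∀ x' f', Mv inc W k z x' f' → DD W z x' f' → Com W x' (z k) ∧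
        ∀ a ∈ W (z 0), ∀ b ∈ W (z (k + 1)), a * b * a⁻¹ * b⁻¹ ∈ W (z k) := by
      intro z hz x' f' h1 h2
      rcases alt D hNO hz.toPth hk h1 h2 with h3 | h3
      · exact (hcon _ _ _ h3).elim
      · exact h3.2
    have hR : ∀ z : ℕ → X, GG inc R W k z → rr W k z ≤ W (z k) := by
      intro z hz
      obtain ⟨x', f', h1, h2⟩ := hD _ hz
      exact rr_le (key z hz x' f' h1 h2).2
    obtain ⟨l, hl0, hl1, u, hu, hu1, huV⟩ := hT _ h fun x' f' h1 h2 => (key y h x' f' h1 h2).1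
    obtain ⟨e, he, hue⟩ := D.cover l u huV
    obtain ⟨-, -, y', e0, e1, en, h'⟩ := second D h hk hl0 hl1 he hue hu1 (rr_le_last D h.toPth hu) (hR y h hu)
    have hu' : u ∈ rr W k y' := by
      have : rr W k y' = rr W k y := by unfold rr; rw [e0, en]
      rwa [this]
    exact (second D h' hk (by rw [e0]; exact hl0) (by rw [e1]; exact he) he hue hu1 (rr_le_last D h'.toPth hu')
      (hR y' h' hu')).2.1 e1.symm
  obtain ⟨x₂, f₂, c2⟩ := child_child D hL hNO hk hD hT c1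
  obtain ⟨u, hu, hu1, e, hue, hec⟩ := hS _ c2.gg
  obtain ⟨j, rfl⟩ : ∃ j, k = j + 1 := ⟨k - 1, by omega⟩
  exact grand D hL (by omega) c1.pth c1.mv c1.dd c1.gg c2.mv c2.dd c2.gg (rr_le_zero D c2.gg.toPth hu)
    (rr_le_last D c2.gg.toPth hu) hu1 hue hec

end asm

end Cfsg.Agent.Omega.NO3S.FarQ.Free
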