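import Cfsg.Agent.Omega.NO3S.FarQ.Free.Chain
import Cfsg.Agent.Omega.All.NOne.Count

/-!
# FarQ, K-free: duality in the FULL world and movers without (D) (helper404 #19545, (E1), (E2))

`InK R W p k` : `k ∈ K_p = {k ∈ C_G(R_p) : [W_p, k] ≤ R_p}`. `FullAt R W p` : `[w, K_p] = R_p` for every
`w ∈ W_p - R_p` (THEOREM FULL, helper251 #19410).

* `dual` : `w ∈ W_p` centralised by `C_{K_p}(R_x R_{x'})` lies in `R_p R_x R_{x'}` (`x, x' ∼ p`, no line contains
  `p, x, x'`);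
* `Bad` : a mover `(x, f)` of a critical pair without (D), `x = h r`; `Bad.comm_mem` : `[W_q, R_x] ≤ V_{l₁}`;
  `Bad.not_mem` : `[f, v] ∉ R_p` for `1 ≠ v ∈ R_x`.
-/

set_option autoImplicit false
set_option linter.unusedSectionVars false

namespace Cfsg.Agent.Omega.NO3S.FarQ.Free

open Subgroup Cfsg Cfsg.Agent.ZN Cfsg.Agent.MinSimple.VModule Cfsg.Agent.Omega.NOThree.Pts
open Cfsg.Agent.Omega.NOThree.LemmaM Cfsg.Agent.Omega.NOThree.LemmaMPlus

variable {G X L : Type*} [Group G] [MulAction G X] [MulAction G L]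
variable {inc : X → L → Prop} {R W : X → Subgroup G} {V : L → Subgroup G} {s t n : ℕ}

/-- `k ∈ K_p` -/
structure InK (R W : X → Subgroup G) (p : X) (k : G) : Prop where
  cent : ∀ z ∈ R p, k * z = z * k
  low : ∀ w ∈ W p, k * w * k⁻¹ * w⁻¹ ∈ R p

/-- `[w, K_p] = R_p` for `w ∈ W_p - R_p` -/
def FullAt (R W : X → Subgroup G) (p : X) : Prop :=
  ∀ w ∈ W p, w ∉ R p → ∀ z ∈ R p, ∃ k, InK R W p k ∧ k * w * k⁻¹ * w⁻¹ = z

/-- the group `K_p` -/
def KK (R W : X → Subgroup G) (p : X) : Subgroup G where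
  carrier := {k | InK R W p k}
  one_mem' := ⟨fun z _ => by rw [one_mul, mul_one], fun w _ => by
    have e : (1 : G) * w * 1⁻¹ * w⁻¹ = 1 := by group
    rw [e]; exact one_mem _⟩
  mul_mem' := by
    intro a b ha hb
    refine ⟨fun z hz => by rw [mul_assoc, hb.cent z hz, ← mul_assoc, ha.cent z hz, mul_assoc], fun w hw => ?_⟩
    have e : a * b * w * (a * b)⁻¹ * w⁻¹ = (a * (b * w * b⁻¹ * w⁻¹) * a⁻¹) * (a * w * a⁻¹ * w⁻¹) := by group
    rw [e, ha.cent _ (hb.low w hw), mul_inv_cancel_right]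
    exact mul_mem (hb.low w hw) (ha.low w hw)
  inv_mem' := by
    intro a ha
    have hc : ∀ z ∈ R p, a⁻¹ * z = z * a⁻¹ := fun z hz => by
      have h1 := ha.cent z hz
      calc a⁻¹ * z = a⁻¹ * (z * a) * a⁻¹ := by group
        _ = a⁻¹ * (a * z) * a⁻¹ := by rw [h1]
        _ = z * a⁻¹ := by group
    refine ⟨hc, fun w hw => ?_⟩
    have h1 := ha.low w hw
    have e : a⁻¹ * w * a⁻¹⁻¹ * w⁻¹ = a⁻¹ * (w * a * w⁻¹ * a⁻¹) * a := by group
    have e2 : w * a * w⁻¹ * a⁻¹ = (a * w * a⁻¹ * w⁻¹)⁻¹ := by group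
    rw [e, e2, hc _ (inv_mem h1), inv_mul_cancel_right]
    exact inv_mem h1

theorem mem_KK {p : X} {k : G} : k ∈ KK R W p ↔ InK R W p k := Iff.rfl

section kk

variable (D : Geom inc R W V s t)
include D

/-- `k ∈ K_p` centralising `1 ≠ a ∈ R_x`, `x ∼ p`, centralises `R_x`. -/
theorem InK.cent_pt {p x : X} {m : L} {k a : G} (h : InK R W p k) (hp : inc p m) (hx : inc x m) (hxp : x ≠ p)
    (ha : a ∈ R x) (ha1 : a ≠ 1) (hk : k * a = a * k) {b : G} (hb : b ∈ R x) : k * b = b * k := by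
  have h1 : k • x = x := D.fix ha ha1 hk
  have h2 : k * b * k⁻¹ * b⁻¹ ∈ R x := mul_mem (D.norm_R h1 hb) (inv_mem hb)
  have h3 : k * b * k⁻¹ * b⁻¹ ∈ R p := h.low b (D.V_le p m hp (D.R_le x m hx hb))
  by_contra h4
  refine hxp (D.ti x p _ h2 h3 fun e => h4 ?_)
  rw [mul_inv_eq_one, mul_inv_eq_iff_eq_mul] at e
  exact e

/-- `[·, k]` is multiplicative on `W_p` -/
theorem InK.comm_mul {p : X} {k : G} (h : InK R W p k) {a b : G} (ha : a ∈ W p) (hb : b ∈ W p) :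
    k * (a * b) * k⁻¹ * (a * b)⁻¹ = (k * a * k⁻¹ * a⁻¹) * (k * b * k⁻¹ * b⁻¹) := by
  have h2 := D.comm p a ha _ (D.R_le_W p (h.low b hb))
  calc k * (a * b) * k⁻¹ * (a * b)⁻¹ = (k * a * k⁻¹) * ((k * b * k⁻¹ * b⁻¹) * a⁻¹) := by group
    _ = (k * a * k⁻¹) * (a⁻¹ * (a * (k * b * k⁻¹ * b⁻¹)) * a⁻¹) := by group
    _ = (k * a * k⁻¹) * (a⁻¹ * ((k * b * k⁻¹ * b⁻¹) * a) * a⁻¹) := by rw [h2]
    _ = _ := by group

/-- `k ↦ [k, w]`, `K_p → R_p` -/
def dl {p : X} {w : G} (hw : w ∈ W p) : KK R W p →* R p where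
  toFun k := ⟨(k : G) * w * (k : G)⁻¹ * w⁻¹, k.2.low w hw⟩
  map_one' := Subtype.ext (by
    show ((1 : KK R W p) : G) * w * ((1 : KK R W p) : G)⁻¹ * w⁻¹ = 1
    rw [OneMemClass.coe_one]; group)
  map_mul' a b := Subtype.ext (by
    show ((a * b : KK R W p) : G) * w * ((a * b : KK R W p) : G)⁻¹ * w⁻¹ =
      ((a : G) * w * (a : G)⁻¹ * w⁻¹) * ((b : G) * w * (b : G)⁻¹ * w⁻¹)
    have h1 := D.comm p _ (D.R_le_W p (b.2.low w hw)) _ (D.R_le_W p (a.2.low w hw))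
    have e : (a : G) * b * w * ((a : G) * b)⁻¹ * w⁻¹ =
        ((a : G) * ((b : G) * w * (b : G)⁻¹ * w⁻¹) * (a : G)⁻¹) * ((a : G) * w * (a : G)⁻¹ * w⁻¹) := by group
    rw [Subgroup.coe_mul, e, a.2.cent _ (b.2.low w hw), mul_inv_cancel_right, h1])

theorem dl_apply {p : X} {w : G} (hw : w ∈ W p) (k : KK R W p) :
    ((dl D hw k : R p) : G) = (k : G) * w * (k : G)⁻¹ * w⁻¹ := rfl

theorem index_dl [Finite G] {p : X} {w : G} (hw : w ∈ W p) : (dl D hw).ker.index ≤ s := by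
  rw [Subgroup.index_ker]
  calc Nat.card (dl D hw).range ≤ Nat.card (R p) := Nat.card_le_card_of_injective _ Subtype.val_injective
    _ = s := D.card p

/-- **(E1)** duality -/
theorem dual [Finite G] {p x x' : X} {m m' : L} (hF : FullAt R W p) (hp : inc p m) (hx : inc x m) (hp' : inc p m')
    (hx' : inc x' m') (hxp : x ≠ p) (hxp' : x' ≠ p) (hn : ¬ inc x' m) {w : G} (hw : w ∈ W p)
    (hc : ∀ k, InK R W p k → (∀ a ∈ R x, k * a = a * k) → (∀ b ∈ R x', k * b = b * k) → k * w = w * k) :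
    ∃ z ∈ R p, ∃ a ∈ R x, ∃ b ∈ R x', w = z * a * b := by
  classical
  have hxW : R x ≤ W p := (D.R_le x m hx).trans (D.V_le p m hp)
  have hxW' : R x' ≤ W p := (D.R_le x' m' hx').trans (D.V_le p m' hp')
  have hpW : R p ≤ W p := D.R_le_W p
  obtain ⟨a₀, ha₀, ha₁⟩ := D.exists_ne x
  obtain ⟨b₀, hb₀, hb₁⟩ := D.exists_ne x'
  -- `W♭`
  let Wb : Subgroup G :=
    { carrier := {w | w ∈ W p ∧ ∀ k, InK R W p k → (∀ a ∈ R x, k * a = a * k) → (∀ b ∈ R x', k * b = b * k) →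
        k * w = w * k}
      one_mem' := ⟨one_mem _, fun k _ _ _ => by rw [mul_one, one_mul]⟩
      mul_mem' := fun {a b} ha hb => ⟨mul_mem ha.1 hb.1, fun k h1 h2 h3 => by
        rw [← mul_assoc, ha.2 k h1 h2 h3, mul_assoc, hb.2 k h1 h2 h3, mul_assoc]⟩
      inv_mem' := fun {a} ha => ⟨inv_mem ha.1, fun k h1 h2 h3 => by
        have h4 := ha.2 k h1 h2 h3
        calc k * a⁻¹ = a⁻¹ * (a * k) * a⁻¹ := by group
          _ = a⁻¹ * (k * a) * a⁻¹ := by rw [h4]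
          _ = a⁻¹ * k := by group⟩ }
  have hWb : ∀ u ∈ Wb, u ∈ W p := fun u hu => hu.1
  -- a character
  obtain ⟨r₀, hr₀, hr₁⟩ := D.exists_ne p
  obtain ⟨l, hl⟩ := Cfsg.Agent.Omega.All.NOne.exists_char (R p) (fun a ha b hb => D.comm p a (hpW ha) b (hpW hb))
    (fun a ha => D.sq p a (hpW ha)) hr₀ hr₁
  let Ψ : Wb →* (KK R W p →* ℤˣ) :=
    { toFun := fun u => l.comp (dl D u.2.1)
      map_one' := by
        ext k
        show ((l (dl D (Wb.one_mem).1 k) : ℤˣ) : ℤ) = 1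
        have e : dl D (Wb.one_mem).1 k = 1 := Subtype.ext (by rw [dl_apply]; simp)
        rw [e, map_one, Units.val_one]
      map_mul' := fun u v => by
        ext k
        show ((l (dl D (u * v).2.1 k) : ℤˣ) : ℤ) = ((l (dl D u.2.1 k) * l (dl D v.2.1 k) : ℤˣ) : ℤ)
        rw [← map_mul]
        have e : dl D (u * v).2.1 k = dl D u.2.1 k * dl D v.2.1 k := Subtype.ext (by
          show (k : G) * ((u : G) * v) * (k : G)⁻¹ * ((u : G) * v)⁻¹ =
            ((k : G) * u * (k : G)⁻¹ * (u : G)⁻¹) * ((k : G) * v * (k : G)⁻¹ * (v : G)⁻¹)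
          exact k.2.comm_mul D u.2.1 v.2.1)
        rw [e] }
  have hΨ : ∀ (u : Wb) (k : KK R W p), Ψ u k = l (dl D u.2.1 k) := fun _ _ => rfl
  -- the kernel
  have hker : ∀ u ∈ Ψ.ker, (u : G) ∈ R p := by
    intro u hu
    by_contra h1
    obtain ⟨k, hk, hk2⟩ := hF u u.2.1 h1 r₀ hr₀
    have h2 : Ψ u ⟨k, hk⟩ = 1 := by rw [MonoidHom.mem_ker.1 hu]; rfl
    rw [hΨ] at h2
    have h3 : dl D u.2.1 ⟨k, hk⟩ = ⟨r₀, hr₀⟩ := Subtype.ext hk2
    rw [h3, hl] at h2
    exact absurd h2 (by decide)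
  have hcard1 : Nat.card Ψ.ker ≤ s := by
    rw [← D.card p]
    exact Nat.card_le_card_of_injective (fun u : Ψ.ker => (⟨((u : Wb) : G), hker u u.2⟩ : R p))
      fun u v h => by
        have h1 : ((u : Wb) : G) = ((v : Wb) : G) := congrArg (fun r : R p => (r : G)) h
        exact Subtype.ext (Subtype.ext h1)
  -- the range
  have hcard2 : Nat.card Ψ.range ≤ s * s := by
    have h1 := Cfsg.Agent.Omega.All.NOne.card_le_index ((dl D (hxW ha₀)).ker ⊓ (dl D (hxW' hb₀)).ker)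
      (fun i : Ψ.range => (i : KK R W p →* ℤˣ)) Subtype.val_injective (by
        rintro ⟨_, u, rfl⟩ k hk
        show Ψ u k = 1
        rw [hΨ]
        have e : dl D u.2.1 k = 1 := by
          refine Subtype.ext ?_
          rw [dl_apply]
          have h2 : (k : G) * a₀ = a₀ * k := by
            have := congrArg Subtype.val (MonoidHom.mem_ker.1 hk.1)
            rw [dl_apply] at this
            rw [OneMemClass.coe_one, mul_inv_eq_one, mul_inv_eq_iff_eq_mul] at this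
            exact this
          have h3 : (k : G) * b₀ = b₀ * k := by
            have := congrArg Subtype.val (MonoidHom.mem_ker.1 hk.2)
            rw [dl_apply] at this
            rw [OneMemClass.coe_one, mul_inv_eq_one, mul_inv_eq_iff_eq_mul] at this
            exact this
          have h4 := u.2.2 k k.2 (fun a ha => k.2.cent_pt D hp hx hxp ha₀ ha₁ h2 ha)
            (fun b hb => k.2.cent_pt D hp' hx' hxp' hb₀ hb₁ h3 hb)
          rw [h4, mul_inv_cancel_right, mul_inv_cancel]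
          rfl
        rw [e, map_one])
    refine h1.trans (Subgroup.index_inf_le.trans (Nat.mul_le_mul (index_dl D _) (index_dl D _)))
  have hcard : Nat.card Wb ≤ s * (s * s) := by
    have h1 := Subgroup.card_mul_index Ψ.ker
    rw [Subgroup.index_ker] at h1
    rw [← h1]
    exact Nat.mul_le_mul hcard1 hcard2
  -- the product
  let θ : R p × R x × R x' → Wb := fun y => ⟨y.1 * y.2.1 * y.2.2,
    mul_mem (mul_mem (hpW y.1.2) (hxW y.2.1.2)) (hxW' y.2.2.2), fun k h1 h2 h3 => by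
      calc k * ((y.1 : G) * y.2.1 * y.2.2) = (k * y.1) * y.2.1 * y.2.2 := by group
        _ = y.1 * (k * y.2.1) * y.2.2 := by rw [h1.cent _ y.1.2]; group
        _ = y.1 * y.2.1 * (k * y.2.2) := by rw [h2 _ y.2.1.2]; group
        _ = _ := by rw [h3 _ y.2.2.2]; group⟩
  have hθ : Function.Injective θ := by
    rintro ⟨⟨z, hz⟩, ⟨a, ha⟩, ⟨b, hb⟩⟩ ⟨⟨z', hz'⟩, ⟨a', ha'⟩, ⟨b', hb'⟩⟩ h
    have h1 : z * a * b = z' * a' * b' := congrArg Subtype.val h
    have h2 : b * b'⁻¹ = (z * a)⁻¹ * (z' * a') := by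
      calc b * b'⁻¹ = (z * a)⁻¹ * (z * a * b) * b'⁻¹ := by group
        _ = (z * a)⁻¹ * (z' * a' * b') * b'⁻¹ := by rw [h1]
        _ = _ := by group
    have h3 : b * b'⁻¹ ∈ V m := by
      rw [h2]
      exact mul_mem (inv_mem (mul_mem (D.R_le p m hp hz) (D.R_le x m hx ha)))
        (mul_mem (D.R_le p m hp hz') (D.R_le x m hx ha'))
    have h4 : b * b'⁻¹ = 1 := by
      by_contra h5
      exact hn (on_line D (mul_mem hb (inv_mem hb')) h5 h3)
    have h5 : b = b' := mul_inv_eq_one.1 h4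
    subst h5
    have h6 : z * a = z' * a' := mul_right_cancel h1
    have h7 : a * a'⁻¹ = z⁻¹ * z' := by
      calc a * a'⁻¹ = z⁻¹ * (z * a) * a'⁻¹ := by group
        _ = z⁻¹ * (z' * a') * a'⁻¹ := by rw [h6]
        _ = _ := by group
    have h8 : a * a'⁻¹ = 1 := by
      by_contra h9
      exact hxp (D.ti x p _ (mul_mem ha (inv_mem ha')) (by rw [h7]; exact mul_mem (inv_mem hz) hz') h9)
    have h9 : a = a' := mul_inv_eq_one.1 h8
    subst h9
    have h10 : z = z' := mul_right_cancel h6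
    subst h10
    rfl
  have hcard3 : Nat.card (R p × R x × R x') = s * (s * s) := by
    rw [Nat.card_prod, Nat.card_prod, D.card p, D.card x, D.card x']
  have hbij := hθ.bijective_of_nat_card_le (by rw [hcard3]; exact hcard)
  obtain ⟨⟨z, a, b⟩, h⟩ := hbij.2 ⟨w, hw, hc⟩
  exact ⟨z, z.2, a, a.2, b, b.2, (congrArg Subtype.val h).symm⟩

end kk

/-! ### Movers without (D) -/

/-- A mover `(x, f)`, `x = h r`, of the critical pair `(p, q)` with first line `l = p r`, without (D). -/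
structure Bad (inc : X → L → Prop) (R W : X → Subgroup G) (n : ℕ) (p q r : X) (l : L) (f h : G) : Prop where
  crit : Crit inc W n p q
  pos : 1 ≤ n
  pl : inc p l
  rl : inc r l
  wk : Walk inc (n - 1) r q
  hf : f ∈ W q
  hc : ∀ z ∈ R p, h * z = z * h
  odd : Odd (orderOf h)
  inv : f * h * f⁻¹ = h⁻¹
  mv : f • h • r ≠ h • r
  nd : ¬ ∀ a ∈ W (h • r), a ∈ W (f • h • r) → a ∈ W p

namespace Bad

variable {p q r : X} {l : L} {f h : G} (D : Geom inc R W V s t) (b : Bad inc R W n p q r l f h)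
include D b

omit D in
theorem ne : r ≠ p := by
  rintro rfl
  have := b.pos
  exact b.crit.not_walk (by omega) b.wk

omit D in
theorem com : Com W q r := b.crit.min (n - 1) (by have := b.pos; omega) _ _ b.wk.symm

theorem W_fix_p {g : G} (hg : g ∈ W q) : g • p = p := b.crit.symm.fix D b.pos hg

theorem fix_q {w : G} (hw : w ∈ W p) : w • q = q := b.crit.fix D b.pos hw

theorem W_fix_r {g : G} (hg : g ∈ W q) : g • r = r :=
  D.fix_of_centralizes fun a ha => b.com g hg a (D.R_le_W r ha)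

theorem h_p : h • p = p := D.fix_of_centralizes b.hc

omit D in
theorem fh : f * h = h⁻¹ * f := by rw [← b.inv, inv_mul_cancel_right]

omit D in
theorem fhi : f * h⁻¹ = h * f := by
  have h1 := congrArg (·⁻¹) b.inv
  simp only [mul_inv_rev, inv_inv] at h1
  calc f * h⁻¹ = f * (h⁻¹ * f⁻¹) * f := by group
    _ = h * f := by rw [h1]

theorem ff : f * f = 1 := D.sq q f b.hf

theorem fx_eq : f • h • r = h⁻¹ • r := by rw [← mul_smul, b.fh, mul_smul, b.W_fix_r D b.hf]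

theorem ffx : f • f • h • r = h • r := by rw [← mul_smul f f, b.ff D, one_smul]

theorem px : inc p (h • l) := by
  have := D.inc_smul h p l b.pl
  rwa [b.h_p D] at this

theorem xm : inc (h • r) (h • l) := D.inc_smul h r l b.rl

theorem px' : inc p (f • h • l) := by
  have := D.inc_smul f p _ (b.px D)
  rwa [b.W_fix_p D b.hf] at this

theorem xm' : inc (f • h • r) (f • h • l) := D.inc_smul f _ _ (b.xm D)

theorem x_ne : h • r ≠ p := by
  intro e
  apply b.ne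
  have h1 := b.h_p D
  rw [← h1] at e
  exact smul_left_cancel h e

theorem x'_ne : f • h • r ≠ p := by
  intro e
  apply b.x_ne D
  have h1 := b.W_fix_p D b.hf
  rw [← h1] at e
  exact smul_left_cancel f e

/-- no line contains `p, x, x'` -/
theorem not_inc : ¬ inc (f • h • r) (h • l) := by
  intro h1
  apply b.nd
  intro a ha ha'
  have h2 := D.F1 (h • r) (f • h • r) p (h • l) (b.xm D) h1 (b.px D) b.mv.symm (b.x_ne D)
  have h3 : a ∈ W (h • r) ⊓ W (f • h • r) := ⟨ha, ha'⟩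
  rw [h2] at h3
  exact h3.2

/-- `Y = W_x ∩ W_{x'}` lies in `W_r` and is centralised by `h` and `f`. -/
theorem Y_mem {y : G} (h1 : y ∈ W (h • r)) (h2 : y ∈ W (f • h • r)) : y ∈ W r ∧ h * y = y * h ∧ f * y = y * f := by
  rw [b.fx_eq D] at h2
  have e1 : (h * f * h⁻¹) * y = y * (h * f * h⁻¹) := by
    have h3 := b.com f b.hf _ ((D.W_smul_iff h).1 h1)
    have h4 := cg h h3
    have a1 : h * (f * (h⁻¹ * y * h)) * h⁻¹ = (h * f * h⁻¹) * y := by group
    have a2 : h * (h⁻¹ * y * h * f) * h⁻¹ = y * (h * f * h⁻¹) := by group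
    rwa [a1, a2] at h4
  have e2 : (h⁻¹ * f * h) * y = y * (h⁻¹ * f * h) := by
    have h3 := b.com f b.hf _ ((D.W_smul_iff h⁻¹).1 h2)
    have h4 := cg h⁻¹ h3
    have a1 : h⁻¹ * (f * (h⁻¹⁻¹ * y * h⁻¹)) * h⁻¹⁻¹ = (h⁻¹ * f * h) * y := by group
    have a2 : h⁻¹ * (h⁻¹⁻¹ * y * h⁻¹ * f) * h⁻¹⁻¹ = y * (h⁻¹ * f * h) := by group
    rwa [a1, a2] at h4
  have e3 : (h * f * h⁻¹) * (h⁻¹ * f * h) = (h * h) * (h * h) := by
    calc (h * f * h⁻¹) * (h⁻¹ * f * h) = h * (f * h⁻¹) * h⁻¹ * f * h := by group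
      _ = h * (h * f) * h⁻¹ * f * h := by rw [b.fhi]
      _ = h * h * (f * h⁻¹) * f * h := by group
      _ = h * h * (h * f) * f * h := by rw [b.fhi]
      _ = h * h * h * (f * f) * h := by group
      _ = _ := by rw [b.ff D]; group
  have e4 : (h * h) * (h * h) ∈ centralizer ({y} : Set G) := by
    rw [← e3]
    refine mul_mem ?_ ?_
    · rw [mem_centralizer_singleton_iff]; exact e1
    · rw [mem_centralizer_singleton_iff]; exact e2
  have e5 : Odd (orderOf (h * h)) := by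
    rw [← pow_two]
    exact Odd.of_dvd_nat b.odd (orderOf_pow_dvd 2)
  have hk : ∀ {k : G}, Odd (orderOf k) → k * k ∈ centralizer ({y} : Set G) → k ∈ centralizer ({y} : Set G) := by
    intro k ho hk
    obtain ⟨j, hj⟩ := ho
    have h3 : (k * k) ^ (j + 1) = k := by
      rw [← pow_two, ← pow_mul, show 2 * (j + 1) = orderOf k + 1 by omega, pow_succ, pow_orderOf_eq_one, one_mul]
    rw [← h3]
    exact pow_mem hk _
  have e6 : h ∈ centralizer ({y} : Set G) := hk b.odd (hk e5 e4)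
  rw [mem_centralizer_singleton_iff] at e6
  have e7 : h⁻¹ * y * h = y := by rw [mul_assoc, ← e6]; group
  refine ⟨?_, e6, ?_⟩
  · have := (D.W_smul_iff h).1 h1
    rwa [e7] at this
  · calc f * y = h⁻¹ * ((h * f * h⁻¹) * (h * y)) := by group
      _ = h⁻¹ * ((h * f * h⁻¹) * (y * h)) := by rw [e6]
      _ = h⁻¹ * ((h * f * h⁻¹) * y) * h := by group
      _ = h⁻¹ * (y * (h * f * h⁻¹)) * h := by rw [e1]
      _ = (h⁻¹ * y * h) * f := by group
      _ = y * f := by rw [e7]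

/-- `k ∈ K_p` centralising `R_x`, `R_{x'}` centralises `R_e` for `e ∼ p`, `Y ≤ W_e`. -/
theorem cent_of {e : X} {m : L} (he : inc e m) (hp : inc p m) (hep : e ≠ p)
    (hY : ∀ y ∈ W (h • r), y ∈ W (f • h • r) → y ∈ W e) {k : G} (hk : InK R W p k)
    (h1 : ∀ a ∈ R (h • r), k * a = a * k) (h2 : ∀ a ∈ R (f • h • r), k * a = a * k) {a : G} (ha : a ∈ R e) :
    k * a = a * k := by
  have hnd := b.nd
  push Not at hnd
  obtain ⟨y, y1, y2, y3⟩ := hnd
  have k1 : k • (h • r) = h • r := D.fix_of_centralizes h1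
  have k2 : k • (f • h • r) = f • h • r := D.fix_of_centralizes h2
  have k1' : k⁻¹ • (h • r) = h • r := by rw [inv_smul_eq_iff, k1]
  have k2' : k⁻¹ • (f • h • r) = f • h • r := by rw [inv_smul_eq_iff, k2]
  have y4 : k⁻¹ * y * k ∈ W e := by
    have a1 := D.norm_W k1' y1
    have a2 := D.norm_W k2' y2
    rw [inv_inv] at a1 a2
    exact hY _ a1 a2
  have y5 : y ∈ W (k • e) := (D.W_smul_iff k).2 y4
  have hkem : inc (k • e) m := by
    obtain ⟨v, hv, hv1⟩ := D.exists_ne e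
    have h3 : k * v * k⁻¹ ∈ R (k • e) := D.R_smul k e v hv
    have h4 : k * v * k⁻¹ ∈ V m := by
      have h5 := mul_mem (D.R_le p m hp (hk.low v (D.V_le p m hp (D.R_le e m he hv)))) (D.R_le e m he hv)
      rwa [inv_mul_cancel_right] at h5
    refine on_line D h3 (fun h5 => hv1 ?_) h4
    calc v = k⁻¹ * (k * v * k⁻¹) * k := by group
      _ = 1 := by rw [h5]; group
  have hke : k • e = e := by
    by_contra h5
    have h6 := D.F1 e (k • e) p m he hkem hp (Ne.symm h5) hep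
    have h7 : y ∈ W e ⊓ W (k • e) := ⟨hY y y1 y2, y5⟩
    rw [h6] at h7
    exact y3 h7.2
  have h3 : k * a * k⁻¹ * a⁻¹ ∈ R e := mul_mem (D.norm_R hke ha) (inv_mem ha)
  have h4 : k * a * k⁻¹ * a⁻¹ ∈ R p := hk.low a (D.V_le p m hp (D.R_le e m he ha))
  by_contra h5
  refine hep (D.ti e p _ h3 h4 fun e6 => h5 ?_)
  rw [mul_inv_eq_one, mul_inv_eq_iff_eq_mul] at e6
  exact e6

/-- `R_e ≤ R_p R_x R_{x'}` -/
theorem dec [Finite G] (hF : FullAt R W p) {e : X} {m : L} (he : inc e m) (hp : inc p m) (hep : e ≠ p)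
    (hY : ∀ y ∈ W (h • r), y ∈ W (f • h • r) → y ∈ W e) {a : G} (ha : a ∈ R e) :
    ∃ z ∈ R p, ∃ u ∈ R (h • r), ∃ v ∈ R (f • h • r), a = z * u * v :=
  dual D hF (b.px D) (b.xm D) (b.px' D) (b.xm' D) (b.x_ne D) (b.x'_ne D) (b.not_inc D)
    (D.V_le p m hp (D.R_le e m he ha)) fun _ hk h1 h2 => b.cent_of D he hp hep hY hk h1 h2 ha

theorem xW : R (h • r) ≤ W p := (D.R_le _ _ (b.xm D)).trans (D.V_le _ _ (b.px D))

theorem x'W : R (f • h • r) ≤ W p := (D.R_le _ _ (b.xm' D)).trans (D.V_le _ _ (b.px' D))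

/-- an element of `R_p R_x R_{x'}` commuting with `f` -/
theorem dec_f {c z u v : G} (hz : z ∈ R p) (hu : u ∈ R (h • r)) (hv : v ∈ R (f • h • r)) (hc : c = z * u * v)
    (hfc : f * c = c * f) : c = z * u * (f * u * f⁻¹) := by
  have f1 : f * z = z * f := b.com f b.hf z (D.V_le r l b.rl (D.R_le p l b.pl hz))
  have f2 : f * u * f⁻¹ ∈ R (f • h • r) := D.R_smul f _ u hu
  have f3 : f * v * f⁻¹ ∈ R (h • r) := by
    have := D.R_smul f _ v hv
    rwa [b.ffx D] at this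
  have e0 : f * c * f⁻¹ = c := by rw [hfc]; group
  have e1 : z * ((f * u * f⁻¹) * (f * v * f⁻¹)) = z * (u * v) := by
    have : f * c * f⁻¹ = (f * z) * u * v * f⁻¹ := by rw [hc]; group
    rw [f1] at this
    have e2 : z * f * u * v * f⁻¹ = z * ((f * u * f⁻¹) * (f * v * f⁻¹)) := by group
    rw [e2, e0, hc] at this
    rw [← this]; group
  have e2 := mul_left_cancel e1
  have e3 : (f * u * f⁻¹) * (f * v * f⁻¹) = (f * v * f⁻¹) * (f * u * f⁻¹) :=
    D.comm p _ (b.x'W D f2) _ (b.xW D f3)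
  rw [e3] at e2
  -- `(f v f⁻¹)⁻¹ u = (f u f⁻¹) v⁻¹`
  have e4 : (f * v * f⁻¹)⁻¹ * u = (f * u * f⁻¹) * v⁻¹ := by
    calc (f * v * f⁻¹)⁻¹ * u = (f * v * f⁻¹)⁻¹ * (u * v) * v⁻¹ := by group
      _ = (f * v * f⁻¹)⁻¹ * ((f * v * f⁻¹) * (f * u * f⁻¹)) * v⁻¹ := by rw [e2]
      _ = _ := by group
  have e5 : (f * u * f⁻¹) * v⁻¹ = 1 := by
    by_contra h5
    refine b.mv (D.ti _ _ _ (mul_mem f2 (inv_mem hv)) ?_ h5)
    rw [← e4]
    exact mul_mem (inv_mem f3) hu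
  rw [hc, ← mul_inv_eq_one.1 e5]

/-- **(E2)** `[W_q, R_x] ≤ V_{l₁}` -/
theorem comm_mem [Finite G] (hF : FullAt R W p) {g v : G} (hg : g ∈ W q) (hv : v ∈ R (h • r)) :
    g * v * g⁻¹ * v⁻¹ ∈ V l := by
  classical
  have hvW : v ∈ W p := b.xW D hv
  -- the decomposition of `R_r`
  have key : ∀ w : R r, ∃ u : R (h • r), ∃ z ∈ R p, (w : G) = z * u * (f * u * f⁻¹) := by
    intro w
    obtain ⟨z, hz, u, hu, u', hu', e⟩ := b.dec D hF b.rl b.pl b.ne (fun y h1 h2 => (b.Y_mem D h1 h2).1) w.2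
    exact ⟨⟨u, hu⟩, z, hz, b.dec_f D hz hu hu' e (b.com f b.hf w (D.R_le_W r w.2))⟩
  choose φ z hz hφ using key
  have hinj : Function.Injective φ := by
    intro w w' hww
    have h1 : (w : G) * (w' : G)⁻¹ = z w * (z w')⁻¹ := by
      rw [hφ w, hφ w', hww]
      group
    have h2 : (w : G) * (w' : G)⁻¹ = 1 := by
      by_contra h3
      exact b.ne (D.ti r p _ (mul_mem w.2 (inv_mem w'.2)) (by rw [h1]; exact mul_mem (hz w) (inv_mem (hz w'))) h3)
    exact Subtype.ext (mul_inv_eq_one.1 h2)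
  have hsur : Function.Surjective φ :=
    (hinj.bijective_of_nat_card_le (by rw [D.card, D.card])).2
  -- `c`
  have hgp := b.W_fix_p D hg
  have hgx : inc (g • h • r) (g • h • l) := D.inc_smul g _ _ (b.xm D)
  have hgpl : inc p (g • h • l) := by
    have := D.inc_smul g _ _ (b.px D)
    rwa [hgp] at this
  have hgne : g • h • r ≠ p := by
    intro e
    rw [← hgp] at e
    exact b.x_ne D (smul_left_cancel g e)
  obtain ⟨z₁, hz₁, u₁, hu₁, v₁, hv₁, e₁⟩ := b.dec D hF hgx hgpl hgne (fun y h1 h2 => by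
    have h3 := (b.Y_mem D h1 h2).1
    have h4 := D.W_smul g _ y h1
    rwa [b.com g hg y h3, mul_inv_cancel_right] at h4) (D.R_smul g _ v hv)
  have hcf : f * (g * v * g⁻¹ * v⁻¹) = (g * v * g⁻¹ * v⁻¹) * f := by
    refine D.comm q f b.hf _ ?_
    have e : g * v * g⁻¹ * v⁻¹ = g * (v * g⁻¹ * v⁻¹) := by group
    rw [e]
    exact mul_mem hg (D.norm_W (b.fix_q D hvW) (inv_mem hg))
  have e₂ : g * v * g⁻¹ * v⁻¹ = z₁ * (u₁ * v⁻¹) * v₁ := by
    have h1 := D.comm p v₁ (b.x'W D hv₁) v⁻¹ (inv_mem hvW)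
    calc g * v * g⁻¹ * v⁻¹ = z₁ * u₁ * v₁ * v⁻¹ := by rw [e₁]
      _ = z₁ * u₁ * (v₁ * v⁻¹) := by group
      _ = z₁ * u₁ * (v⁻¹ * v₁) := by rw [h1]
      _ = _ := by group
  have hu : u₁ * v⁻¹ ∈ R (h • r) := mul_mem hu₁ (inv_mem hv)
  have e₃ := b.dec_f D hz₁ hu hv₁ e₂ hcf
  obtain ⟨w, hw⟩ := hsur ⟨_, hu⟩
  have e₄ := hφ w
  rw [hw] at e₄
  have e₅ : g * v * g⁻¹ * v⁻¹ = z₁ * (z w)⁻¹ * w := by
    rw [e₃, e₄]
    group
  rw [e₅]
  exact mul_mem (mul_mem (D.R_le p l b.pl hz₁) (inv_mem (D.R_le p l b.pl (hz w)))) (D.R_le r l b.rl w.2)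

/-- `[f, v] ∉ R_p` for `1 ≠ v ∈ R_x` -/
theorem not_mem {v : G} (hv : v ∈ R (h • r)) (hv1 : v ≠ 1) : f * v * f⁻¹ * v⁻¹ ∉ R p := by
  intro h1
  apply b.not_inc D
  have h2 : f * v * f⁻¹ ∈ V (h • l) := by
    have h3 := mul_mem (D.R_le p _ (b.px D) h1) (D.R_le _ _ (b.xm D) hv)
    rwa [inv_mul_cancel_right] at h3
  refine on_line D (D.R_smul f _ v hv) (fun h5 => hv1 ?_) h2
  calc v = f⁻¹ * (f * v * f⁻¹) * f := by group
    _ = 1 := by rw [h5]; group

end Bad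

end Cfsg.Agent.Omega.NO3S.FarQ.Free
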