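import Cfsg.Agent.Omega.NO3S.FarQ.Free.Term
import Cfsg.Agent.Omega.NO3S.FarQ.Free.Sum

/-!
# FarQ (`q ≥ 4`, `n ≥ 3`), K-free: `HS` over `Frm`, from THEOREM SUM (helper244 #19037)

`hs : HS inc R W k` : in a goal pair `[W_{y 0}, W_{y (k+1)}]` contains a nontrivial element of a point collinear with `y 0`.
-/

set_option autoImplicit false
set_option linter.unusedSectionVars false

namespace Cfsg.Agent.Omega.NO3S.FarQ.Free

open Subgroup Cfsg Cfsg.Agent.ZN Cfsg.Agent.MinSimple.VModule Cfsg.Agent.Omega.NOThree.Pts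
open Cfsg.Agent.Omega.NOThree.LemmaM Cfsg.Agent.Omega.NOThree.LemmaMPlus
open Cfsg.Agent.Omega.NO3S.FarQ.Glue Cfsg.Agent.Omega.NO3S.FarQ.Asm
open Cfsg.Agent.Omega.NO3S.FarQ.Free.Canon

variable {G X L : Type*} [Group G] [MulAction G X] [MulAction G L]
variable {inc : X → L → Prop} {R W : X → Subgroup G} {V : L → Subgroup G} {s t n : ℕ}
variable {H M K : Type*} [Group H] [CommGroup M] [MulDistribMulAction H M] [CommGroup K]
variable {k : ℕ} {p₀ : X} {l₀ : L} {Sy : Subgroup G} {ρ : G → H} {π : G → M} {ζ : K →* G} {T : Subgroup H}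
  {lam U : Subgroup M} {Kh : Subgroup (M →* K)}
variable [Finite G] (D : Geom inc R W V s t) (F : Frm inc R W V p₀ l₀ Sy ρ π ζ T lam U Kh)
include D F

set_option maxHeartbeats 800000 in
/-- **`HS`** -/
theorem hs (hk : 2 ≤ k) : HS inc R W k := by
  intro y hy
  obtain ⟨l, hl0, hl1⟩ := hy.col 0 (Nat.zero_le _)
  have hNO := F.noOver D
  obtain ⟨_, ρ₁, π₁, _, F₁⟩ := F.at_flag D hl0
  have hcr : Crit inc W (k + 1) (y 0) (y (k + 1)) := hy.crit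
  have h01 : y 0 ≠ y 1 := hy.toPth.ne_succ (Nat.zero_le _)
  have hw1 : Walk inc (k + 1 - 1) (y 1) (y (k + 1)) := by
    have := hy.toPth.wk' (i := 1) (j := k + 1) (by omega) le_rfl
    simpa using this
  have hE : ExP inc R W V (k + 1) (y 0) (y (k + 1)) := ExP.of_typeI D hNO hcr (by omega) hy.t1 hy.t2
  have hEx : Ex inc R W V (y 0) l (W (y (k + 1))) := hE.ex (y 1) l hw1.symm hl1 hl0
  have hqR : W (y (k + 1)) ≤ centralizer (R (y 0) : Set G) := RF.A_le D hEx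
  have hA : Exact lam (im F₁.re (W (y (k + 1))) hqR) := RF.exact D F₁.toRF hEx
  obtain ⟨J, hJ⟩ := F.exists_js D
  have hAB : ∀ a ∈ im F₁.re (W (y (k + 1))) hqR, IsBB U a := by
    rintro _ ⟨f, hf, rfl⟩
    refine ⟨fun u hu => ?_, fun m' => ?_⟩
    · obtain ⟨w, hw, hwy, rfl⟩ := (F₁.mU u).1 hu
      rw [← comm_mem_iff F₁.re D (hqR hf) hw, comm_eq_one.2 (hEx.cen (y 1) hl1 h01.symm f hf w hw (hwy _ hl1))]
      exact one_mem _
    · obtain ⟨w, hw, rfl⟩ := F₁.re.psurj m'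
      rw [← π_comm F₁.re D (hqR hf) hw]
      have h1 : f * w * f⁻¹ * w⁻¹ ∈ W (y 0) := mul_mem (Four.norm_p D (hqR hf) hw) (inv_mem hw)
      have h2 : f * w * f⁻¹ * w⁻¹ ∈ W (y 1) := comm_inv_mem.1 (hy.low w hw f hf)
      exact (F₁.mU _).2 ⟨_, h1, fun z hz => D.inf_le hl0 hl1 hz h01 ⟨h1, h2⟩, rfl⟩
  obtain ⟨m, hm, hm1, h, a, ha, hma⟩ := sum_flag F.flag.toK F.flag.le
    (fun u hu hul a ha => by
      obtain ⟨j, -, hj⟩ := hJ.full u hu hul a ha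
      exact ⟨j, hj⟩) F.no hA.le (fun a ha => (hAB a ha).1) (fun a ha => (hAB a ha).2) hA.ne hA.card
  obtain ⟨u, hu, hum⟩ : ∃ u ∈ rr W k y, π₁ u = m := by
    have hrrW : rr W k y ≤ W (y 0) := rr_le_zero D hy.toPth
    refine closure_induction (p := fun x _ => ∃ u ∈ rr W k y, π₁ u = x) ?_ ?_ ?_ ?_ hm
    · rintro _ ⟨_, ⟨f, hf, rfl⟩, m', -, rfl⟩
      obtain ⟨w, hw, rfl⟩ := F₁.re.psurj m'
      refine ⟨f * w * f⁻¹ * w⁻¹, ?_, π_comm F₁.re D (hqR hf) hw⟩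
      have e : f * w * f⁻¹ * w⁻¹ = (w * f * w⁻¹ * f⁻¹)⁻¹ := by group
      rw [e]
      exact inv_mem (comm_mem_rr hw hf)
    · exact ⟨1, one_mem _, π_one F₁.re⟩
    · rintro _ _ _ _ ⟨a, ha, rfl⟩ ⟨b, hb, rfl⟩
      exact ⟨a * b, mul_mem ha hb, F₁.re.pmul a (hrrW ha) b (hrrW hb)⟩
    · rintro _ _ ⟨a, ha, rfl⟩
      exact ⟨a⁻¹, inv_mem ha, π_inv F₁.re (hrrW ha)⟩
  refine ⟨u, hu, ?_, ?_⟩
  · rintro rfl
    exact hm1 (hum ▸ π_one F₁.re)
  · obtain ⟨g, hg, rfl⟩ := F₁.re.surj h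
    obtain ⟨v, hv, rfl⟩ := (F₁.mlam _).1 ha
    have hvW : v ∈ W (y 0) := D.V_le _ l hl0 hv
    rw [← F₁.re.act g hg v hvW] at hma
    have hg0 : g • y 0 = y 0 := Four.fix_p D hg
    have hgl : inc (y 0) (g • l) := by
      have := D.inc_smul g _ _ hl0
      rwa [hg0] at this
    have h1 := mem_mul_R F₁.re (rr_le_zero D hy.toPth hu) (Four.norm_p D hg hvW) (hum.trans hma)
    have h2 : u ∈ V (g • l) := by
      have h3 := mul_mem (D.R_le _ _ hgl h1) (D.V_smul g l v hv)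
      rwa [inv_mul_cancel_right] at h3
    obtain ⟨x, hx, hux⟩ := D.cover _ u h2
    exact ⟨x, hux, g • l, hx, hgl⟩

end Cfsg.Agent.Omega.NO3S.FarQ.Free
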