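import Cfsg.Agent.Omega.NO3S.PB.Geom
import Cfsg.Agent.Omega.NO3S.PB.Syl
import Cfsg.Agent.Omega.NO3S.FarQ.Free.Canon

/-!
# FarQ K-free over the `(R, B)`-frame: the fields `fl`, `cl`, `f2` of `Frm`, and `JS`

`PB S B P V Z`, (F1), `OmB B V`; points, lines of `PtGeom`.
-/

set_option autoImplicit false
set_option linter.unusedSectionVars false

namespace Cfsg.Agent.Omega.NO3S.FarQ.Free.RealB2

open Subgroup Cfsg Cfsg.Agent.ZN Cfsg.Agent.MinSimple.VModule Cfsg.Agent.Omega.NOThree.Pts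
open Cfsg.Agent.Omega.NO3S.FarQ Cfsg.Agent.Omega.NO3S.FarQ.Glue Cfsg.Agent.Omega.NO3S.PT
open Cfsg.Agent.Omega.NO3S.PtGeom (Pt inc)
open Cfsg.Agent.Omega.NO3S.FarQ.Free.Canon
open scoped Pointwise

universe u

variable {G : Type u} [Group G] [Finite G] {S : Sylow 2 G} {B P V Z : Subgroup G} (h : PB S B P V Z)
include h

/-- every flag is conjugate to the base flag -/
theorem fl : ∀ (x : Pt Z) (m : Pt V), inc x m → ∃ g : G, x = g • Pt.base Z ∧ m = g • Pt.base V := by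
  intro x m hxm
  obtain ⟨g, h1, h2⟩ := PB.Geom.exists_conj_flag h x.isCj m.isCj hxm
  exact ⟨g, Pt.ext h1, Pt.ext h2⟩

/-- `C_G(Z)` is transitive on the lines on `Z` -/
theorem cl : ∀ m : Pt V, inc (Pt.base Z) m → ∃ c ∈ centralizer ((Pt.base Z).sg : Set G), m = c • Pt.base V := by
  intro m hm
  obtain ⟨c, hc, e⟩ := h.exists_cent_line m.isCj hm
  exact ⟨c, hc, Pt.ext e⟩

theorem mem_IV {u : G} (hu : ∀ y : Pt Z, inc y (Pt.base V) → u ∈ ws V y.sg) : u ∈ IV V Z := by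
  rw [IV, Subgroup.mem_sInf]
  rintro _ ⟨Y, hY, hYV, rfl⟩
  exact hu (Pt.mk hY) hYV

/-- (F2') -/
theorem f2 (hf : ¬ kx V Z ≤ centralizer (V : Set G)) (hO : OmB B V) : ∀ u : G, (∀ y : Pt Z, inc y (Pt.base V) → u ∈ ws V y.sg) → u ∉ (Pt.base V).sg →
    ∀ y : Pt Z, inc y (Pt.base V) → ∀ r ∈ y.sg, ∃ k ∈ centralizer ((Pt.base V).sg : Set G),
      (∀ w ∈ ws V y.sg, k * w * k⁻¹ * w⁻¹ ∈ y.sg) ∧ k * u * k⁻¹ * u⁻¹ = r := by
  intro u hu huV y hy r hr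
  obtain ⟨d, hd, hdV, e⟩ := h.F2' hf hO (mem_IV h hu) huV y.isCj hy hr
  exact ⟨d, hdV, (mem_kx.1 hd).2, e⟩

variable {H M : Type*} [Group H] [CommGroup M] [MulDistribMulAction H M]
variable {ρ : G → H} {π : G → M} {lam U : Subgroup M}

theorem exists_js_base (hf : ¬ kx V Z ≤ centralizer (V : Set G)) (hO : OmB B V)
    (F : RF (inc (Z := Z) (V := V)) (fun x => x.sg) (fun x => ws V x.sg) (fun l => l.sg) (Pt.base Z) (Pt.base V)
      ρ π lam U) : ∃ J : Subgroup H, JS lam U J ∧ ∀ c ∈ fixer (H := H) lam, ∀ j ∈ J, c * j * c⁻¹ ∈ J := by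
  have hA : XV V Z ⊓ centralizer (V : Set G) ≤ centralizer (Z : Set G) :=
    inf_le_right.trans (centralizer_le h.ZV)
  have hVW : V ≤ ws V Z := h.V_le_ws h.ZV
  have D := PB.Geom.geom h hf hO
  have hCV : centralizer (V : Set G) ≤ centralizer (Z : Set G) := centralizer_le h.ZV
  refine ⟨im F.re (XV V Z ⊓ centralizer (V : Set G)) hA, ⟨?_, ?_, ?_⟩, ?_⟩
  · rintro _ ⟨c, hc, rfl⟩ a ha
    obtain ⟨v, hv, rfl⟩ := (F.mlam a).1 ha
    rw [← F.re.act c (hA hc) v (hVW hv)]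
    have h1 := mem_centralizer_iff.1 hc.2 v hv
    rw [← h1, mul_inv_cancel_right]
  · rintro _ ⟨c, hc, rfl⟩ u hu
    obtain ⟨w, hw, hwy, rfl⟩ := (F.mU u).1 hu
    rw [← π_comm F.re D (hA hc) hw]
    exact (F.mlam _).2 ⟨_, h.XV_act hc.1 (mem_IV h hwy), rfl⟩
  · intro u hu hul a ha
    obtain ⟨w, hw, hwy, rfl⟩ := (F.mU u).1 hu
    obtain ⟨v, hv, rfl⟩ := (F.mlam a).1 ha
    have hwV : w ∉ V := fun e => hul ((F.mlam _).2 ⟨w, e, rfl⟩)
    obtain ⟨c, hc, hcV, hcu⟩ := h.F2 hf hO (mem_IV h hwy) hwV hv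
    refine ⟨ρ c, ⟨c, ⟨hc, hcV⟩, rfl⟩, ?_⟩
    rw [← F.re.act c (hA ⟨hc, hcV⟩) w hw]
    have e : c * w * c⁻¹ = v * w := by rw [← hcu]; group
    rw [e, F.re.pmul v (hVW hv) w hw, mul_comm]
  · rintro c hc _ ⟨j, hj, rfl⟩
    obtain ⟨g, hg, rfl⟩ := F.cov c hc
    have hg' : g ∈ normalizer (V : Set G) := centralizer_le_normalizer _ hg
    refine ⟨g * j * g⁻¹, Subgroup.mem_inf.2 ⟨?_, mul_mem (mul_mem hg (Subgroup.mem_inf.1 hj).2) (inv_mem hg)⟩,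
      F.re.conj (hCV hg) (hA hj)⟩
    exact (mem_normalizer_iff.1 (normalizer_le_XV V Z hg') j).1 (Subgroup.mem_inf.1 hj).1

/-- **`JS` at every realised flag.** -/
theorem exists_js (hf : ¬ kx V Z ≤ centralizer (V : Set G)) (hO : OmB B V) {x : Pt Z} {l : Pt V}
    (F : RF (inc (Z := Z) (V := V)) (fun x => x.sg) (fun x => ws V x.sg) (fun l => l.sg) x l ρ π lam U) :
    ∃ J : Subgroup H, JS lam U J ∧ ∀ c ∈ fixer (H := H) lam, ∀ j ∈ J, c * j * c⁻¹ ∈ J := by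
  have D := PB.Geom.geom h hf hO
  obtain ⟨g, hx, hl⟩ := fl h x l F.pl
  have F' := F.smul D g⁻¹
  rw [hx, hl, inv_smul_smul, inv_smul_smul] at F'
  exact exists_js_base h hf hO F'

end Cfsg.Agent.Omega.NO3S.FarQ.Free.RealB2
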