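import Cfsg.Agent.Omega.NO3S.FarQ.Free.End

/-!
# FarQ, K-free: the end over `Frm`

See `Free/End.lean` (`no_gg`, `false_of_full`, `exists_frm`, `farBF`; helper238).  Nothing is declared here.
-/
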