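import Cfsg.Agent.Omega.NO3S.FarQ.Abs

/-!
# FULL: (4.1) of helper937 #18718 without fields (helper238's (r2), #19033)

`A` acts quadratically on the finite abelian group `M`, `|A| = |M : C_M(A)|`; `Lam` a family of subgroups of order
`|lam|` such that an element of `A` fixing one element `≠ 1` of `ν ∈ Lam` centralises `ν`; every `a ∈ A`, `a ≠ 1`,
moves some `ν ∈ Lam` with `[ν, A] ≤ lam`.

* `Fl.le` : `[M, A] ≤ lam`; `Fl.full` : `[m, A] = lam` for every `m ∉ C_M(A)`;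
* `Fl.em_eq` : `[M, A] = lam` (`A ≠ 1`).
-/

set_option autoImplicit false
set_option linter.unusedSectionVars false

namespace Cfsg.Agent.Omega.NO3S.FarQ.Free

open Subgroup Cfsg.Agent.ZN Cfsg.Agent.Omega.NO3S.PT
open Cfsg.Agent.ClassTwoFusion.Quad (cv mem_cv cv_anti)

variable {H M : Type*} [Group H] [CommGroup M] [MulDistribMulAction H M]

/-- **The situation of (4.1)** -/
structure Fl (Lam : Set (Subgroup M)) (lam : Subgroup M) (A : Subgroup H) : Prop where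
  quad : ∀ a ∈ A, ∀ b ∈ A, ∀ m : M, b • ((a • m) * m⁻¹) = (a • m) * m⁻¹
  card : Nat.card A = (zm M A).index
  cardL : ∀ ν ∈ Lam, Nat.card ν = Nat.card lam
  /-- TI -/
  ti : ∀ ν ∈ Lam, ∀ a ∈ A, ∀ n ∈ ν, n ≠ 1 → a • n = n → ∀ n' ∈ ν, a • n' = n'
  /-- every `a ≠ 1` moves some `ν` with `[ν, A] ≤ lam` -/
  move : ∀ a ∈ A, a ≠ 1 → ∃ ν ∈ Lam, (∀ n ∈ ν, ∀ b ∈ A, (b • n) * n⁻¹ ∈ lam) ∧ ∃ n ∈ ν, a • n ≠ n

namespace Fl

variable {Lam : Set (Subgroup M)} {lam : Subgroup M} {A : Subgroup H} (F : Fl Lam lam A)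

variable (lam A) in
/-- `M' = {m : [m, A] ≤ lam}` -/
def Mp : Subgroup M where
  carrier := {m | ∀ b ∈ A, (b • m) * m⁻¹ ∈ lam}
  one_mem' := fun b _ => by rw [smul_one, inv_one, mul_one]; exact one_mem _
  mul_mem' := fun {x y} hx hy b hb => by
    have e : (b • (x * y)) * (x * y)⁻¹ = ((b • x) * x⁻¹) * ((b • y) * y⁻¹) := by
      rw [smul_mul', mul_inv]
      exact mul_mul_mul_comm _ _ _ _
    rw [e]
    exact mul_mem (hx b hb) (hy b hb)
  inv_mem' := fun {x} hx b hb => by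
    have e : (b • x⁻¹) * x⁻¹⁻¹ = ((b • x) * x⁻¹)⁻¹ := by rw [smul_inv', mul_inv]
    rw [e]
    exact inv_mem (hx b hb)

include F

/-- `[m, ab] = [m, a] [m, b]` -/
theorem mul_comm' {a b : H} (ha : a ∈ A) (hb : b ∈ A) (m : M) :
    ((a * b) • m) * m⁻¹ = ((a • m) * m⁻¹) * ((b • m) * m⁻¹) := by
  have h1 := F.quad b hb a ha m
  rw [smul_mul', smul_inv', ← mul_smul] at h1
  have h2 : (a * b) • m = (b • m * m⁻¹) * (a • m) := by rw [← h1, inv_mul_cancel_right]
  rw [h2, mul_assoc, mul_comm]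

/-- `a ↦ [m, a]` on `B ≤ A` -/
def hom {B : Subgroup H} (hB : B ≤ A) (m : M) : B →* M where
  toFun b := ((b : H) • m) * m⁻¹
  map_one' := by rw [Subgroup.coe_one, one_smul, mul_inv_cancel]
  map_mul' a b := F.mul_comm' (hB a.2) (hB b.2) m

omit F in
/-- `C_B(ν)` -/
def Cn (B : Subgroup H) (ν : Subgroup M) : Subgroup H where
  carrier := {b | b ∈ B ∧ ∀ n ∈ ν, b • n = n}
  one_mem' := ⟨one_mem _, fun n _ => one_smul H n⟩
  mul_mem' := fun {x y} hx hy => ⟨mul_mem hx.1 hy.1, fun n hn => by rw [mul_smul, hy.2 n hn, hx.2 n hn]⟩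
  inv_mem' := fun {x} hx => ⟨inv_mem hx.1, fun n hn => by rw [inv_smul_eq_iff, hx.2 n hn]⟩

/-- `C_B(ν)` is the kernel of `[n, ·]` -/
theorem card_ker {B : Subgroup H} (hB : B ≤ A) {ν : Subgroup M} (hν : ν ∈ Lam) {n : M} (hn : n ∈ ν) (hn1 : n ≠ 1) :
    Nat.card (F.hom hB n).ker = Nat.card (Cn B ν) := by
  refine Nat.card_congr ⟨fun b => ⟨((b : B) : H), (b : B).2, ?_⟩, fun b => ⟨⟨b, b.2.1⟩, ?_⟩, fun b => rfl, fun b => rfl⟩
  · have h1 : (((b : B) : H) • n) * n⁻¹ = 1 := b.2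
    exact F.ti ν hν _ (hB (b : B).2) n hn hn1 (mul_inv_eq_one.1 h1)
  · change ((b : H) • n) * n⁻¹ = 1
    rw [b.2.2 n hn, mul_inv_cancel]

variable [Finite H] [Finite M]

/-- `|B : C_B(ν)| = |[n, B]|` -/
theorem card_mul {B : Subgroup H} (hB : B ≤ A) {ν : Subgroup M} (hν : ν ∈ Lam) {n : M} (hn : n ∈ ν) (hn1 : n ≠ 1) :
    Nat.card (Cn B ν) * Nat.card (F.hom hB n).range = Nat.card B := by
  rw [← F.card_ker hB hν hn hn1, ← Subgroup.index_ker]
  exact (F.hom hB n).ker.card_mul_index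

omit F [Finite H] [Finite M] in
theorem range_le (F : Fl Lam lam A) {B : Subgroup H} (hB : B ≤ A) {n : M} (hn : n ∈ Mp lam A) :
    (F.hom hB n).range ≤ lam := by
  rintro _ ⟨b, rfl⟩
  exact hn _ (hB b.2)

omit F [Finite H] [Finite M] in
theorem relIndex_mul {X Y : Subgroup M} (Z : Subgroup M) (h : X ≤ Y) :
    X.relIndex Z = (X ⊓ Z).relIndex (Y ⊓ Z) * Y.relIndex Z := by
  rw [← Subgroup.inf_relIndex_right X Z, ← Subgroup.inf_relIndex_right Y Z]
  exact (Subgroup.relIndex_mul_relIndex (X ⊓ Z) (Y ⊓ Z) Z (inf_le_inf_right _ h) inf_le_right).symm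

omit F [Finite H] in
theorem rne (X Y : Subgroup M) : X.relIndex Y ≠ 0 := Subgroup.index_ne_zero_of_finite

/-- the induction: `|B| ≤ |M' : C_{M'}(B)|`, and `[m, B] = lam` for `m ∈ M'` moved by `B` if equality holds -/
theorem main (k : ℕ) : ∀ B : Subgroup H, B ≤ A → Nat.card B ≤ k →
    Nat.card B ≤ (zm M B).relIndex (Mp lam A) ∧
      ((zm M B).relIndex (Mp lam A) ≤ Nat.card B → ∀ m ∈ Mp lam A, m ∉ zm M B →
        ∀ l ∈ lam, ∃ b ∈ B, (b • m) * m⁻¹ = l) := by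
  induction k with
  | zero => exact fun B _ h => absurd h (by have := Nat.card_pos (α := B); omega)
  | succ k ih =>
    intro B hB hk
    by_cases hbot : B = ⊥
    · subst hbot
      refine ⟨?_, fun _ m _ hm => absurd (fun b hb => ?_) hm⟩
      · rw [Subgroup.card_bot]
        exact Nat.one_le_iff_ne_zero.2 (rne _ _)
      · rw [Subgroup.mem_bot.1 hb, one_smul]
    obtain ⟨⟨a, ha⟩, ha1⟩ := Subgroup.ne_bot_iff_exists_ne_one.1 hbot
    obtain ⟨ν, hν, hνM, n, hn, hna⟩ := F.move a (hB ha) (fun e => ha1 (Subtype.ext e))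
    have hnuM : ν ≤ Mp lam A := fun n hn b hb => hνM n hn b hb
    have hn1 : n ≠ 1 := by
      rintro rfl
      exact hna (smul_one a)
    set B1 := Cn B ν with hB1
    have hB1B : B1 ≤ B := fun b hb => hb.1
    have hlt : Nat.card B1 < Nat.card B := by
      refine lt_of_le_of_ne (Subgroup.card_le_of_le hB1B) fun e => ?_
      have h1 := Subgroup.eq_of_le_of_card_ge hB1B e.ge
      rw [← h1] at ha
      exact hna (ha.2 n hn)
    obtain ⟨i1, i2⟩ := ih B1 (hB1B.trans hB) (by omega)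
    -- `|B : B₁| ≤ |lam|`
    have hc := F.card_mul hB hν hn hn1
    have hr : Nat.card (F.hom hB n).range ≤ Nat.card lam :=
      Nat.card_mono (Set.toFinite _) (F.range_le hB (hnuM hn))
    -- `|C(B₁) ∩ M' : C(B) ∩ M'| ≥ |ν|`
    have hrel := relIndex_mul (Mp lam A) (show zm M B ≤ zm M B1 from cv_anti hB1B)
    have hle : ν ≤ zm M B1 ⊓ Mp lam A := fun x hx => ⟨fun b hb => hb.2 x hx, hnuM hx⟩
    have hinf : (zm M B ⊓ Mp lam A) ⊓ ν = ⊥ := by
      rw [Subgroup.eq_bot_iff_forall]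
      rintro x ⟨⟨hx, -⟩, hxν⟩
      by_contra hx1
      exact hna (F.ti ν hν a (hB ha) x hxν hx1 (hx a ha) n hn)
    have h3 : (zm M B ⊓ Mp lam A).relIndex ν = Nat.card ν := by
      rw [← Subgroup.inf_relIndex_right, hinf, Subgroup.relIndex_bot_left]
    have hge : Nat.card lam ≤ (zm M B ⊓ Mp lam A).relIndex (zm M B1 ⊓ Mp lam A) := by
      rw [← F.cardL ν hν, ← h3]
      exact Subgroup.relIndex_le_of_le_right hle (rne _ _)
    refine ⟨?_, fun heq => ?_⟩
    · rw [hrel, ← hc, mul_comm]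
      exact Nat.mul_le_mul (hr.trans hge) i1
    · have hR1 : (zm M B1).relIndex (Mp lam A) ≤ Nat.card B1 := by
        have h4 : (zm M B ⊓ Mp lam A).relIndex (zm M B1 ⊓ Mp lam A) * (zm M B1).relIndex (Mp lam A) ≤
            (zm M B ⊓ Mp lam A).relIndex (zm M B1 ⊓ Mp lam A) * Nat.card B1 := by
          rw [← hrel]
          refine heq.trans ?_
          rw [← hc, mul_comm]
          exact Nat.mul_le_mul_right _ (hr.trans hge)
        exact Nat.le_of_mul_le_mul_left h4 (Nat.pos_of_ne_zero (rne _ _))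
      have hg : (zm M B ⊓ Mp lam A).relIndex (zm M B1 ⊓ Mp lam A) ≤ Nat.card (F.hom hB n).range := by
        have h4 : (zm M B ⊓ Mp lam A).relIndex (zm M B1 ⊓ Mp lam A) * (zm M B1).relIndex (Mp lam A) ≤
            Nat.card (F.hom hB n).range * (zm M B1).relIndex (Mp lam A) := by
          rw [← hrel]
          refine heq.trans ?_
          rw [← hc, mul_comm]
          exact Nat.mul_le_mul_left _ i1
        exact Nat.le_of_mul_le_mul_right h4 (Nat.pos_of_ne_zero (rne _ _))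
      -- `C_{M'}(B₁) = ν × C_{M'}(B)`
      have hsup : zm M B1 ⊓ Mp lam A ≤ ν ⊔ (zm M B ⊓ Mp lam A) := by
        rw [← Subgroup.relIndex_eq_one]
        have h5 : zm M B ⊓ Mp lam A ≤ zm M B1 ⊓ Mp lam A := inf_le_inf_right _ (cv_anti hB1B)
        have h6 := Subgroup.relIndex_mul_relIndex (zm M B ⊓ Mp lam A) (ν ⊔ (zm M B ⊓ Mp lam A))
          (zm M B1 ⊓ Mp lam A) le_sup_right (sup_le hle h5)
        rw [Subgroup.relIndex_sup_right, h3] at h6
        have h7 : Nat.card ν * (ν ⊔ (zm M B ⊓ Mp lam A)).relIndex (zm M B1 ⊓ Mp lam A) ≤ Nat.card ν * 1 := by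
          rw [h6, mul_one, F.cardL ν hν]
          exact hg.trans hr
        exact le_antisymm (Nat.le_of_mul_le_mul_left h7 Nat.card_pos) (Nat.one_le_iff_ne_zero.2 (rne _ _))
      intro m hm hmB l hl
      by_cases hm1 : m ∈ zm M B1
      · obtain ⟨x, hx, y, hy, rfl⟩ := Subgroup.mem_sup.1 (hsup ⟨hm1, hm⟩)
        have hx1 : x ≠ 1 := by
          rintro rfl
          rw [one_mul] at hmB
          exact hmB hy.1
        have h8 := F.card_mul hB hν hx hx1
        rw [← hc] at h8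
        have h9 := Nat.eq_of_mul_eq_mul_left Nat.card_pos h8
        have h10 : (F.hom hB x).range = lam := by
          refine Subgroup.eq_of_le_of_card_ge (F.range_le hB (hnuM hx)) ?_
          rw [h9]
          exact hge.trans hg
        rw [← h10] at hl
        obtain ⟨b, rfl⟩ := hl
        refine ⟨b, b.2, ?_⟩
        have e : ((b : H) • (x * y)) * (x * y)⁻¹ = ((b : H) • x) * x⁻¹ * (((b : H) • y) * y⁻¹) := by
          rw [smul_mul', mul_inv]
          exact mul_mul_mul_comm _ _ _ _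
        rw [e, hy.1 _ b.2, mul_inv_cancel, mul_one]
        rfl
      · obtain ⟨b, hb, h4⟩ := i2 hR1 m hm hm1 l hl
        exact ⟨b, hB1B hb, h4⟩

theorem top : ∀ m : M, ∃ x ∈ Mp lam A, ∃ y ∈ zm M A, m = x * y := by
  have h1 := (F.main _ A le_rfl le_rfl).1
  have h2 : (zm M A).relIndex (Mp lam A) ≤ (zm M A).index := by
    rw [← Subgroup.relIndex_top_right]
    exact Subgroup.relIndex_le_of_le_right le_top (rne _ _)
  have h3 : (zm M A).relIndex (Mp lam A) = (zm M A).index := le_antisymm h2 (F.card ▸ h1)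
  have h4 := Subgroup.relIndex_mul_relIndex (zm M A) (Mp lam A ⊔ zm M A) ⊤ le_sup_right le_top
  rw [Subgroup.relIndex_sup_right, Subgroup.relIndex_top_right, Subgroup.relIndex_top_right, h3] at h4
  have h5 : (Mp lam A ⊔ zm M A).index = 1 := by
    have h6 : (zm M A).index * (Mp lam A ⊔ zm M A).index = (zm M A).index * 1 := by rw [h4, mul_one]
    exact Nat.eq_of_mul_eq_mul_left (Nat.pos_of_ne_zero Subgroup.index_ne_zero_of_finite) h6
  intro m
  have h7 : m ∈ Mp lam A ⊔ zm M A := by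
    rw [Subgroup.index_eq_one.1 h5]
    exact mem_top m
  obtain ⟨x, hx, y, hy, e⟩ := Subgroup.mem_sup.1 h7
  exact ⟨x, hx, y, hy, e.symm⟩

/-- `[M, A] ≤ lam` -/
theorem le {a : H} (ha : a ∈ A) (m : M) : (a • m) * m⁻¹ ∈ lam := by
  obtain ⟨x, hx, y, hy, rfl⟩ := F.top m
  have e : (a • (x * y)) * (x * y)⁻¹ = (a • x) * x⁻¹ * ((a • y) * y⁻¹) := by
    rw [smul_mul', mul_inv]
    exact mul_mul_mul_comm _ _ _ _
  rw [e, hy a ha, mul_inv_cancel, mul_one]
  exact hx a ha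

/-- **FULL** : `[m, A] = lam` for `m ∉ C_M(A)` -/
theorem full {m : M} (hm : m ∉ zm M A) {l : M} (hl : l ∈ lam) : ∃ a ∈ A, (a • m) * m⁻¹ = l := by
  have h2 : (zm M A).relIndex (Mp lam A) ≤ Nat.card A := by
    rw [F.card, ← Subgroup.relIndex_top_right]
    exact Subgroup.relIndex_le_of_le_right le_top (rne _ _)
  obtain ⟨x, hx, y, hy, rfl⟩ := F.top m
  have hx' : x ∉ zm M A := fun h => hm (mul_mem h hy)
  obtain ⟨a, ha, h3⟩ := (F.main _ A le_rfl le_rfl).2 h2 x hx hx' l hl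
  refine ⟨a, ha, ?_⟩
  have e : (a • (x * y)) * (x * y)⁻¹ = (a • x) * x⁻¹ * ((a • y) * y⁻¹) := by
    rw [smul_mul', mul_inv]
    exact mul_mul_mul_comm _ _ _ _
  rw [e, hy a ha, mul_inv_cancel, mul_one, h3]

/-- `[M, A] = lam` -/
theorem em_eq (hA : A ≠ ⊥) : em M A = lam := by
  refine le_antisymm ((Subgroup.closure_le _).2 ?_) fun l hl => ?_
  · rintro _ ⟨a, ha, m, -, rfl⟩
    exact F.le ha m
  · obtain ⟨⟨a, ha⟩, ha1⟩ := Subgroup.ne_bot_iff_exists_ne_one.1 hA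
    obtain ⟨ν, -, -, n, -, hna⟩ := F.move a ha (fun e => ha1 (Subtype.ext e))
    obtain ⟨b, hb, h3⟩ := F.full (m := n) (fun h => hna (h a ha)) hl
    exact Subgroup.subset_closure ⟨b, hb, n, mem_top _, h3.symm⟩

end Fl

end Cfsg.Agent.Omega.NO3S.FarQ.Free
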