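import Cfsg.Agent.Omega.NO3S.FarQ.Abs

/-!
# TL2, field-free (helper937, bb OMEGA #18718, section 3; piece (P2) of helper238's split #19033)

`H` acts faithfully on the elementary abelian 2-group `M`, `O₂(H) = 1`, `Lam` is one `H`-class of subgroups of `M` which
meet pairwise trivially, `M = ⟨Lam⟩`.

* `th ν = {h ∈ C_H(ν) | [M, h] ≤ ν}`;
* `EF ν B` : `B ≤ th ν` is exact (`|B| = |M : C_M(B)|`) and full (`[u, B] = 1` or `[u, B] = ν` for all `u ∈ M`);
* (NO) : `|B| ≤ |M : C_M(B)|` for all `B ≤ th ν`, `ν ∈ Lam`;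
* `TL.th_eq_bot` : if some `EF ν B` has `B ≠ 1`, then `th ρ = 1` for every `ρ ≤ M` with `|ρ| = |ν|` which meets all
  members of `Lam` trivially;
* `tl2` : the same for `Lam = {h • lam | h ∈ H}`; `th_le_o2`, `no_of_noOv` : the link to `O₂(C_H(lam))`.
-/

set_option autoImplicit false
set_option linter.unusedSectionVars false

namespace Cfsg.Agent.Omega.NO3S.FarQ.Free.TLTwo

open Subgroup Cfsg.Agent.ZN Cfsg.Agent.Omega.NO3S.PT Cfsg.Agent.Omega.NO3S.FarQ
open Cfsg.Agent.MinSimple.VModule (le_o2 o2_le o2_isPGroup le_normalizer_o2)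
open Cfsg.Agent.ClassTwoFusion.Quad (cv mem_cv cv_anti)
open scoped Pointwise

variable {H M : Type*} [Group H] [CommGroup M] [MulDistribMulAction H M]

theorem norm_o2 (K : Subgroup H) : normalizer (K : Set H) ≤ normalizer (o2 K : Set H) := by
  have key : ∀ g ∈ normalizer (K : Set H), cj g (o2 K) ≤ o2 K := by
    intro g hg
    have hgK : ∀ x, g⁻¹ * x * g ∈ K ↔ x ∈ K := fun x => (mem_normalizer_iff''.mp hg x).symm
    refine le_o2 (fun x hx => (hgK x).mp (o2_le K (mem_cj.mp hx))) ?_ ?_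
    · exact (o2_isPGroup K).of_equiv (Subgroup.equivSMul (MulAut.conj g) (o2 K))
    · intro k hk
      have hk' : g⁻¹ * k * g ∈ normalizer (o2 K : Set H) := le_normalizer_o2 K ((hgK k).mpr hk)
      rw [mem_normalizer_iff]
      intro x
      rw [mem_cj, mem_cj, mem_normalizer_iff.mp hk' (g⁻¹ * x * g)]
      have e : g⁻¹ * k * g * (g⁻¹ * x * g) * (g⁻¹ * k * g)⁻¹ = g⁻¹ * (k * x * k⁻¹) * g := by group
      rw [e]
  intro g hg
  rw [mem_normalizer_iff]
  intro x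
  constructor
  · intro hx
    apply key g hg
    rw [mem_cj]
    have e : g⁻¹ * (g * x * g⁻¹) * g = x := by group
    rwa [e]
  · intro hx
    apply key g⁻¹ (inv_mem hg)
    rw [mem_cj, inv_inv]
    exact hx

/-! ### commutators -/

/-- `[m, h]` -/
def br (h : H) (m : M) : M := (h • m) * m⁻¹

theorem smul_br (h : H) (m : M) : h • m = br h m * m := by unfold br; group

theorem br_mul (h : H) (m n : M) : br h (m * n) = br h m * br h n := by
  unfold br
  rw [smul_mul', mul_inv]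
  exact mul_mul_mul_comm _ _ _ _

theorem br_one (h : H) : br h (1 : M) = 1 := by unfold br; rw [smul_one, inv_one, mul_one]

theorem br_eq_one {h : H} {m : M} : br h m = 1 ↔ h • m = m := by unfold br; rw [mul_inv_eq_one]

theorem br_conj (g h : H) (m : M) : g • br h m = br (g * h * g⁻¹) (g • m) := by
  unfold br
  rw [smul_mul', smul_inv', ← mul_smul, ← mul_smul]
  congr 2
  group

/-- `th ν = {h ∈ C_H(ν) | [M, h] ≤ ν}` -/
def th (ν : Subgroup M) : Subgroup H where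
  carrier := {h | (∀ a ∈ ν, h • a = a) ∧ ∀ m : M, br h m ∈ ν}
  one_mem' := ⟨fun a _ => one_smul H a, fun m => by
    have : br (1 : H) m = 1 := by rw [br_eq_one, one_smul]
    rw [this]; exact one_mem _⟩
  mul_mem' := by
    rintro x y ⟨hx, hx'⟩ ⟨hy, hy'⟩
    refine ⟨fun a ha => by rw [mul_smul, hy a ha, hx a ha], fun m => ?_⟩
    have e : br (x * y) m = br x (y • m) * br y m := by
      unfold br
      rw [mul_smul]; group
    rw [e]
    exact mul_mem (hx' _) (hy' _)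
  inv_mem' := by
    rintro x ⟨hx, hx'⟩
    refine ⟨fun a ha => by rw [inv_smul_eq_iff]; exact (hx a ha).symm, fun m => ?_⟩
    have e : br x⁻¹ m = (br x (x⁻¹ • m))⁻¹ := by
      unfold br
      rw [smul_inv_smul, mul_inv, inv_inv, mul_comm]
    rw [e]
    exact inv_mem (hx' _)

variable {ν ν' ρ : Subgroup M} {B C : Subgroup H}

theorem th_fix {h : H} (hh : h ∈ (th ν : Subgroup H)) {a : M} (ha : a ∈ ν) : h • a = a := hh.1 a ha

theorem th_br {h : H} (hh : h ∈ (th ν : Subgroup H)) (m : M) : br h m ∈ ν := hh.2 m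

theorem conj_mem_th {g h : H} (hh : h ∈ (th ν : Subgroup H)) : g * h * g⁻¹ ∈ (th (g • ν) : Subgroup H) := by
  refine ⟨fun a ha => ?_, fun m => ?_⟩
  · rw [mem_pointwise_smul_iff_inv_smul_mem] at ha
    have := hh.1 _ ha
    rw [mul_smul, mul_smul, this, smul_inv_smul]
  · have e : br (g * h * g⁻¹) m = g • br h (g⁻¹ • m) := by rw [br_conj, smul_inv_smul]
    rw [e]
    exact smul_mem_pointwise_smul _ _ _ (hh.2 _)

theorem smul_fix {h : H} (hh : ∀ a ∈ ρ, h • a = a) : h • ρ = ρ := by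
  ext a
  rw [mem_pointwise_smul_iff_inv_smul_mem]
  constructor
  · intro ha
    have := hh _ ha
    rw [smul_inv_smul] at this
    rw [this]; exact ha
  · intro ha
    have : h⁻¹ • a = a := by rw [inv_smul_eq_iff]; exact (hh a ha).symm
    rw [this]; exact ha

/-- full: `[u, B] = 1` or `[u, B] = ν` -/
def Full (ν : Subgroup M) (B : Subgroup H) : Prop :=
  ∀ u : M, (∀ b ∈ B, b • u = u) ∨ ∀ v ∈ ν, ∃ b ∈ B, br b u = v

/-- exact and full -/
structure EF (ν : Subgroup M) (B : Subgroup H) : Prop where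
  le : B ≤ th ν
  card : Nat.card B = (zm M B).index
  full : Full ν B

theorem full_conj {g : H} (h : Full ν B) : Full (g • ν) (cj g B) := by
  intro u
  rcases h (g⁻¹ • u) with h1 | h1
  · left
    intro b hb
    have := h1 _ (mem_cj.mp hb)
    rw [mul_smul, mul_smul, smul_inv_smul, inv_smul_eq_iff, smul_inv_smul] at this
    exact this
  · right
    intro v hv
    rw [mem_pointwise_smul_iff_inv_smul_mem] at hv
    obtain ⟨b, hb, hbv⟩ := h1 _ hv
    refine ⟨g * b * g⁻¹, ?_, ?_⟩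
    · rw [mem_cj]
      have : g⁻¹ * (g * b * g⁻¹) * g = b := by group
      rwa [this]
    · have e : br (g * b * g⁻¹) u = g • br b (g⁻¹ • u) := by rw [br_conj, smul_inv_smul]
      rw [e, hbv, smul_inv_smul]

theorem zm_cj (g : H) (B : Subgroup H) : zm M (cj g B) = g • zm M B := by
  ext m
  rw [mem_pointwise_smul_iff_inv_smul_mem]
  constructor
  · intro hm b hb
    have h1 : g * b * g⁻¹ ∈ cj g B := by
      rw [mem_cj]
      have : g⁻¹ * (g * b * g⁻¹) * g = b := by group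
      rwa [this]
    have h2 := hm _ h1
    rw [mul_smul, mul_smul] at h2
    rw [← smul_left_cancel_iff g, smul_inv_smul]
    exact h2
  · intro hm b hb
    have h1 := hm _ (mem_cj.mp hb)
    rw [mul_smul, mul_smul, smul_inv_smul, inv_smul_eq_iff, smul_inv_smul] at h1
    exact h1

theorem index_zm_cj (g : H) (B : Subgroup H) : (zm M (cj g B)).index = (zm M B).index := by
  rw [zm_cj]
  exact index_map_equiv (zm M B) (MulDistribMulAction.toMulEquiv M g)

theorem ef_conj {g : H} (h : EF ν B) : EF (g • ν) (cj g B) where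
  le := by
    intro b hb
    have h1 := conj_mem_th (g := g) (h.le (mem_cj.mp hb))
    have e : g * (g⁻¹ * b * g) * g⁻¹ = b := by group
    rwa [e] at h1
  card := by rw [card_cj, index_zm_cj, h.card]
  full := full_conj h.full

/-- The situation. -/
structure TL (H : Type*) {M : Type*} [Group H] [CommGroup M] [MulDistribMulAction H M]
    (Lam : Set (Subgroup M)) : Prop where
  finH : Finite H
  finM : Finite M
  sq : ∀ m : M, m * m = 1
  faith : ∀ h : H, (∀ m : M, h • m = m) → h = 1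
  oo : ∀ N : Subgroup H, N.Normal → IsPGroup 2 N → N = ⊥
  inv : ∀ ν ∈ Lam, ∀ h : H, h • ν ∈ Lam
  trans : ∀ ν ∈ Lam, ∀ ν' ∈ Lam, ∃ h : H, h • ν = ν'
  ti : ∀ ν ∈ Lam, ∀ ν' ∈ Lam, ∀ x ∈ ν, x ∈ ν' → x ≠ 1 → ν = ν'
  gen : ∀ N : Subgroup M, (∀ ν ∈ Lam, ν ≤ N) → N = ⊤
  no : ∀ ν ∈ Lam, ∀ B : Subgroup H, B ≤ th ν → Nat.card B ≤ (zm M B).index

/-- the largest exact and full subgroup of `th ν` -/
def ts (H : Type*) {M : Type*} [Group H] [CommGroup M] [MulDistribMulAction H M] (ν : Subgroup M) : Subgroup H :=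
  sSup {B : Subgroup H | EF ν B}

namespace TL

variable {Lam : Set (Subgroup M)}

theorem inv_eq (D : TL H Lam) (m : M) : m⁻¹ = m := inv_eq_of_mul_eq_one_right (D.sq m)

/-- `[h, b]` acts as `m ↦ [[m, b], h]` -/
theorem comm_smul (D : TL H Lam) {h b : H} (h1 : ∀ m : M, b • br h m = br h m) (h2 : ∀ m : M, h • br h m = br h m)
    (h3 : ∀ m : M, b • br b m = br b m) (m : M) : (h * b * h * b) • m = br h (br b m) * m := by
  have hsq : ∀ x : M, x * x = 1 := D.sq
  have e1 : (h * b * h * b) • m = h • b • h • b • m := by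
    rw [mul_smul, mul_smul, mul_smul]
  rw [e1]
  -- write `β = br b m`, `η = br h m`, `κ = br h β`
  set β := br b m with hβ
  set η := br h m with hη
  set κ := br h β with hκ
  have eb : b • m = β * m := smul_br b m
  have eh : h • m = η * m := smul_br h m
  have ehβ : h • β = κ * β := smul_br h β
  have ebβ : b • β = β := h3 m
  have ebκ : b • κ = κ := h1 β
  have ehκ : h • κ = κ := h2 β
  have ebη : b • η = η := h1 m
  have ehη : h • η = η := h2 m
  have s2 : h • b • m = κ * β * (η * m) := by rw [eb, smul_mul', ehβ, eh]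
  have s3 : b • h • b • m = κ * β * (η * (β * m)) := by
    rw [s2, smul_mul', smul_mul', smul_mul', ebκ, ebβ, ebη, eb]
  have s4 : h • b • h • b • m = κ * (κ * β) * (η * (κ * β * (η * m))) := by
    rw [s3, smul_mul', smul_mul', smul_mul', smul_mul', ehκ, ehβ, ehη, eh]
  have e2 : κ * (κ * β) * (η * (κ * β * (η * m))) = (κ * κ) * (β * β) * (η * η) * (κ * m) := by
    ac_rfl
  rw [s4, e2]
  simp only [hsq κ, hsq β, hsq η, one_mul]

theorem br_comm (D : TL H Lam) {h b : H} (h1 : ∀ m : M, b • br h m = br h m) (h2 : ∀ m : M, h • br h m = br h m)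
    (h3 : ∀ m : M, b • br b m = br b m) (m : M) : br (h * b * h * b) m = br h (br b m) := by
  conv_lhs => unfold br
  rw [D.comm_smul h1 h2 h3, mul_inv_cancel_right]

theorem th_sq (D : TL H Lam) {h : H} (hh : h ∈ (th ν : Subgroup H)) : h * h = 1 := by
  refine D.faith _ fun m => ?_
  rw [mul_smul, smul_br h m, smul_mul', th_fix hh (th_br hh m), smul_br h m, ← mul_assoc, D.sq, one_mul]

theorem th_inv (D : TL H Lam) {h : H} (hh : h ∈ (th ν : Subgroup H)) : h⁻¹ = h :=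
  inv_eq_of_mul_eq_one_right (D.th_sq hh)

theorem th_comm (D : TL H Lam) {h b : H} (hh : h ∈ (th ν : Subgroup H)) (hb : b ∈ (th ν : Subgroup H)) :
    h * b = b * h := by
  have h1 : h * b * h * b = 1 := by
    have := D.th_sq (mul_mem hh hb)
    rwa [← mul_assoc] at this
  have h2 : h * b = b⁻¹ * h⁻¹ := by
    have h3 : h * b * (h * b) = 1 := by rw [← mul_assoc]; exact h1
    rw [← mul_inv_rev]
    exact eq_inv_of_mul_eq_one_left h3
  rw [h2, D.th_inv hh, D.th_inv hb]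

theorem th_two (D : TL H Lam) (ν : Subgroup M) : IsPGroup 2 (th ν : Subgroup H) := by
  intro x
  refine ⟨1, ?_⟩
  apply Subtype.ext
  rw [pow_one, pow_two]
  exact D.th_sq x.2

theorem card_eq (D : TL H Lam) (hν : ν ∈ Lam) (hν' : ν' ∈ Lam) : Nat.card ν = Nat.card ν' := by
  obtain ⟨h, rfl⟩ := D.trans ν hν ν' hν'
  exact (Nat.card_congr (Subgroup.equivSMul h ν).toEquiv)

/-! ### the largest exact and full subgroup -/

/-- `[u, b] [u, c] = [u, b c]` -/
theorem br_mul_left {b c : H} (h : ∀ m : M, b • br c m = br c m) (m : M) : br (b * c) m = br b m * br c m := by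
  have e : br (b * c) m = br b (c • m) * br c m := by
    unfold br
    rw [mul_smul]; group
  rw [e, smul_br c m, br_mul, br_eq_one.mpr (h m), one_mul]

theorem ef_bot (_ : TL H Lam) (ν : Subgroup M) : EF ν (⊥ : Subgroup H) where
  le := bot_le
  card := by
    have : zm M (⊥ : Subgroup H) = ⊤ := by
      rw [eq_top_iff]
      intro m _ b hb
      rw [(mem_bot.mp hb : b = 1), one_smul]
    rw [this, index_top, card_bot]
  full := fun u => Or.inl fun b hb => by rw [mem_bot.mp hb, one_smul]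

theorem ef_sup (D : TL H Lam) (hν : ν ∈ Lam) (hB : EF ν B) (hC : EF ν C) : EF ν (B ⊔ C) := by
  have := D.finH
  have := D.finM
  have hle : B ⊔ C ≤ th ν := sup_le hB.le hC.le
  have hcard : ∀ {K L : Subgroup H}, K ≤ L → Nat.card K * K.relIndex L = Nat.card L := fun {K L} hKL => by
    have := relIndex_mul_relIndex (⊥ : Subgroup H) K L bot_le hKL
    rwa [relIndex_bot_left, relIndex_bot_left] at this
  have hmul : Nat.card B * Nat.card C ≤ Nat.card ↥(B ⊔ C) * Nat.card ↥(B ⊓ C) := by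
    have h1 : C.relIndex B ≤ C.relIndex (B ⊔ C) :=
      relIndex_le_of_le_right le_sup_left index_ne_zero_of_finite
    have h2 : Nat.card ↥(B ⊓ C) * C.relIndex B = Nat.card B := by
      rw [← inf_relIndex_left]; exact hcard inf_le_left
    have h3 : Nat.card C * C.relIndex (B ⊔ C) = Nat.card ↥(B ⊔ C) := hcard le_sup_right
    rw [← h3, ← h2]
    calc Nat.card ↥(B ⊓ C) * C.relIndex B * Nat.card C = (Nat.card C * C.relIndex B) * Nat.card ↥(B ⊓ C) := by
          ring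
      _ ≤ (Nat.card C * C.relIndex (B ⊔ C)) * Nat.card ↥(B ⊓ C) :=
          Nat.mul_le_mul_right _ (Nat.mul_le_mul_left _ h1)
  have hzm : zm M (B ⊔ C) = zm M B ⊓ zm M C := by
    apply le_antisymm
    · exact le_inf (cv_anti (by exact_mod_cast (le_sup_left : B ≤ B ⊔ C)))
        (cv_anti (by exact_mod_cast (le_sup_right : C ≤ B ⊔ C)))
    · rintro m ⟨hm1, hm2⟩
      have : B ⊔ C ≤ MulAction.stabilizer H m := sup_le (fun b hb => hm1 b hb) (fun c hc => hm2 c hc)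
      exact fun x hx => this hx
  have hidx : (zm M B ⊓ zm M C).index * (zm M B ⊔ zm M C).index = (zm M B).index * (zm M C).index := by
    have h1 : (zm M B ⊓ zm M C).relIndex (zm M C) = (zm M B).relIndex (zm M C) := inf_relIndex_right _ _
    have h2 : (zm M B).relIndex (zm M B ⊔ zm M C) = (zm M B).relIndex (zm M C) := relIndex_sup_left _ _
    have h3 := relIndex_mul_index (inf_le_right : zm M B ⊓ zm M C ≤ zm M C)
    have h4 := relIndex_mul_index (le_sup_left : zm M B ≤ zm M B ⊔ zm M C)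
    rw [← h3, ← h4, h1, h2]; ring
  have hge : (zm M (B ⊓ C)).index ≤ (zm M B ⊔ zm M C).index := by
    apply Nat.le_of_dvd (Nat.pos_of_ne_zero index_ne_zero_of_finite)
    apply index_dvd_of_le
    exact sup_le (cv_anti (by exact_mod_cast (inf_le_left : B ⊓ C ≤ B)))
      (cv_anti (by exact_mod_cast (inf_le_right : B ⊓ C ≤ C)))
  have hno1 := D.no ν hν (B ⊔ C) hle
  have hno2 := D.no ν hν (B ⊓ C) (inf_le_left.trans hB.le)
  refine ⟨hle, ?_, ?_⟩
  · apply le_antisymm hno1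
    rw [hzm] at hno1 ⊢
    by_contra hlt
    push Not at hlt
    have h1 : Nat.card ↥(B ⊔ C) * Nat.card ↥(B ⊓ C) < (zm M B ⊓ zm M C).index * (zm M B ⊔ zm M C).index :=
      Nat.mul_lt_mul_of_lt_of_le hlt (hno2.trans hge) (Nat.pos_of_ne_zero index_ne_zero_of_finite)
    rw [hidx, ← hB.card, ← hC.card] at h1
    exact absurd hmul (not_le.mpr h1)
  · intro u
    rcases hB.full u with h1 | h1
    · rcases hC.full u with h2 | h2
      · left
        have : B ⊔ C ≤ MulAction.stabilizer H u := sup_le (fun b hb => h1 b hb) (fun c hc => h2 c hc)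
        exact fun x hx => this hx
      · right
        intro v hv
        obtain ⟨b, hb, hbv⟩ := h2 v hv
        exact ⟨b, (le_sup_right : C ≤ B ⊔ C) hb, hbv⟩
    · right
      intro v hv
      obtain ⟨b, hb, hbv⟩ := h1 v hv
      exact ⟨b, (le_sup_left : B ≤ B ⊔ C) hb, hbv⟩

/-- `ts ν` is exact and full -/
theorem ef_ts (D : TL H Lam) (hν : ν ∈ Lam) : EF ν (ts H ν) := by
  have := D.finH
  obtain ⟨B, hB, hmax⟩ : ∃ B : Subgroup H, EF ν B ∧ ∀ C : Subgroup H, EF ν C → C ≤ B := by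
    have hfin : {B : Subgroup H | EF ν B}.Finite := Set.toFinite _
    obtain ⟨B, hB, hmax⟩ := Set.exists_max_image {B : Subgroup H | EF ν B} (fun B => Nat.card B) hfin
      ⟨⊥, D.ef_bot ν⟩
    refine ⟨B, hB, fun C hC => ?_⟩
    have h1 := hmax _ (D.ef_sup hν hB hC)
    have h2 : B = B ⊔ C := Subgroup.eq_of_le_of_card_ge le_sup_left h1
    rw [h2]; exact le_sup_right
  have : ts H ν = B := le_antisymm (sSup_le hmax) (le_sSup hB)
  rw [this]; exact hB

theorem le_ts (_ : TL H Lam) (hB : EF ν B) : B ≤ ts H ν := le_sSup hB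

theorem ts_conj (D : TL H Lam) (hν : ν ∈ Lam) (g : H) : ts H (g • ν) = cj g (ts H ν) := by
  apply le_antisymm
  · have h1 := ef_conj (g := g⁻¹) (D.ef_ts (D.inv ν hν g))
    rw [inv_smul_smul] at h1
    rw [le_cj_iff]
    exact D.le_ts h1
  · exact D.le_ts (ef_conj (D.ef_ts hν))

theorem conj_mem_ts (D : TL H Lam) (hν : ν ∈ Lam) (g : H) {b : H} (hb : b ∈ ts H ν) :
    g * b * g⁻¹ ∈ ts H (g • ν) := by
  rw [D.ts_conj hν]; exact conj_mem_cj hb

theorem card_ts (D : TL H Lam) (hν : ν ∈ Lam) (hν' : ν' ∈ Lam) :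
    Nat.card (ts H ν) = Nat.card (ts H ν') := by
  obtain ⟨g, rfl⟩ := D.trans ν hν ν' hν'
  rw [D.ts_conj hν, card_cj]

theorem ts_ne_bot (D : TL H Lam) (hν' : ν' ∈ Lam) (hν : ν ∈ Lam) (hB : EF ν' B) (hB1 : B ≠ ⊥) :
    ts H ν ≠ ⊥ := by
  have := D.finH
  intro h1
  have h2 := D.card_ts hν hν'
  rw [h1, card_bot] at h2
  apply hB1
  rw [eq_bot_iff, ← Subgroup.card_eq_one.mp h2.symm]
  exact D.le_ts hB

/-! ### moving -/

/-- `h ∈ th ν` moves `ν' ∈ Lam`: `x ↦ [x, h]` is a bijection `ν' → ν` -/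
theorem br_inj (D : TL H Lam) (hν' : ν' ∈ Lam) {h : H} (hdis : ∀ x ∈ ν', (∀ a ∈ ν', br h a ∈ ρ) → br h x ∈ ν' → br h x = 1)
    (hρ : ∀ m : M, br h m ∈ ρ) (hmov : ∃ x ∈ ν', h • x ≠ x) : ∀ x ∈ ν', br h x = 1 → x = 1 := by
  intro x hx hx1
  by_contra hne
  obtain ⟨y, hy, hy1⟩ := hmov
  apply hy1
  have h1 : h • ν' = ν' := by
    refine D.ti _ (D.inv ν' hν' h) _ hν' x ?_ hx hne
    rw [mem_pointwise_smul_iff_inv_smul_mem]
    rw [br_eq_one] at hx1
    have : h⁻¹ • x = x := by rw [inv_smul_eq_iff]; exact hx1.symm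
    rw [this]; exact hx
  have h2 : h • y ∈ ν' := by
    rw [← h1]; exact smul_mem_pointwise_smul _ _ _ hy
  rw [← br_eq_one]
  exact hdis y hy (fun a _ => hρ a) (mul_mem h2 (inv_mem hy))

theorem surj_of_inj (D : TL H Lam) {h : H} (hρ : ∀ x ∈ ν', br h x ∈ ρ) (hc : Nat.card ν' = Nat.card ρ)
    (hinj : ∀ x ∈ ν', br h x = 1 → x = 1) : ∀ r ∈ ρ, ∃ x ∈ ν', br h x = r := by
  have := D.finM
  let f : ν' →* ρ :=
    { toFun := fun x => ⟨br h (x : M), hρ x x.2⟩
      map_one' := Subtype.ext (br_one h)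
      map_mul' := fun x y => Subtype.ext (br_mul h (x : M) (y : M)) }
  have hf : Function.Injective f := by
    rw [injective_iff_map_eq_one]
    intro x hx
    exact Subtype.ext (hinj x x.2 (congrArg Subtype.val hx))
  have hs : Function.Surjective f := (Nat.bijective_iff_injective_and_card f).mpr ⟨hf, hc⟩ |>.2
  intro r hr
  obtain ⟨x, hx⟩ := hs ⟨r, hr⟩
  exact ⟨x, x.2, congrArg Subtype.val hx⟩

/-- `h ∈ th ν` moves `ν' ∈ Lam` (`ν ∈ Lam`) -/
theorem mv_inj (D : TL H Lam) (hν : ν ∈ Lam) (hν' : ν' ∈ Lam) {h : H} (hh : h ∈ (th ν : Subgroup H))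
    (hmov : ∃ x ∈ ν', h • x ≠ x) : ∀ x ∈ ν', br h x = 1 → x = 1 := by
  refine D.br_inj (ρ := ν) hν' (fun x hx _ hx' => ?_) (th_br hh) hmov
  by_contra hne
  have h1 := D.ti _ hν _ hν' _ (th_br hh x) hx' hne
  obtain ⟨y, hy, hy1⟩ := hmov
  rw [← h1] at hy
  exact hy1 (th_fix hh hy)

theorem mv_surj (D : TL H Lam) (hν : ν ∈ Lam) (hν' : ν' ∈ Lam) {h : H} (hh : h ∈ (th ν : Subgroup H))
    (hmov : ∃ x ∈ ν', h • x ≠ x) : ∀ r ∈ ν, ∃ x ∈ ν', br h x = r :=
  D.surj_of_inj (fun x _ => th_br hh x) (D.card_eq hν' hν) (D.mv_inj hν hν' hh hmov)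

/-! ### (b) -/

/-- (b) `ts ν` moves `ν'` implies `ts ν'` moves `ν` -/
theorem arrow_symm (D : TL H Lam) (hν : ν ∈ Lam) (hν' : ν' ∈ Lam) {h : H} (hh : h ∈ ts H ν)
    (hmov : ∃ x ∈ ν', h • x ≠ x) : ∃ b ∈ ts H ν', ∃ x ∈ ν, b • x ≠ x := by
  by_contra hcon
  push Not at hcon
  have := D.finH
  have := D.finM
  have hE := D.ef_ts hν
  have hE' := D.ef_ts hν'
  have hhν : h ∈ (th ν : Subgroup H) := hE.le hh
  have hinj := D.mv_inj hν hν' hhν hmov
  have hsurj := D.mv_surj hν hν' hhν hmov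
  have hbr : ∀ b ∈ ts H ν', ∀ m : M, br (h * b * h * b) m = br h (br b m) := fun b hb m =>
    D.br_comm (fun m => hcon b hb _ (th_br hhν m)) (fun m => th_fix hhν (th_br hhν m))
      (fun m => th_fix (hE'.le hb) (th_br (hE'.le hb) m)) m
  have hact : ∀ {x y : H}, (∀ m : M, br x m = br y m) → x = y := fun {x y} hxy => by
    have h1 : y⁻¹ * x = 1 := D.faith _ fun m => by
      rw [mul_smul, inv_smul_eq_iff, smul_br x m, smul_br y m, hxy m]
    exact (inv_mul_eq_one.mp h1).symm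
  let f : ts H ν' →* H :=
    { toFun := fun b => h * b * h * b
      map_one' := by
        rw [OneMemClass.coe_one, mul_one, mul_one]; exact D.th_sq hhν
      map_mul' := fun a b => by
        apply hact
        intro m
        rw [br_mul_left (b := h * a * h * a) (c := h * b * h * b), hbr a a.2, hbr b b.2]
        · have h1 : br ((a * b : ts H ν') : H) m = br (a : H) m * br (b : H) m := by
            rw [coe_mul]
            exact br_mul_left (fun m => th_fix (hE'.le a.2) (th_br (hE'.le b.2) m)) m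
          rw [hbr _ (a * b).2, h1, br_mul]
        · intro m
          rw [hbr b b.2]
          have h2 : br h (br (b : H) m) ∈ ν := th_br hhν _
          rw [← br_eq_one, hbr a a.2, br_eq_one.mpr (hcon a a.2 _ h2), br_one] }
  have hf : ∀ b : ts H ν', f b = h * b * h * b := fun _ => rfl
  have hfinj : Function.Injective f := by
    rw [injective_iff_map_eq_one]
    intro b hb
    apply Subtype.ext
    refine D.faith _ fun m => ?_
    rw [← br_eq_one]
    apply hinj _ (th_br (hE'.le b.2) m)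
    rw [← hbr b b.2 m, ← hf, hb, br_eq_one, one_smul]
  have hle : EF ν f.range := by
    refine ⟨?_, ?_, ?_⟩
    · rintro _ ⟨b, rfl⟩
      refine ⟨fun a ha => ?_, fun m => ?_⟩
      · rw [← br_eq_one, hf, hbr b b.2, br_eq_one.mpr (hcon b b.2 a ha), br_one]
      · rw [hf, hbr b b.2]; exact th_br hhν _
    · have h1 : Nat.card f.range = Nat.card (ts H ν') :=
        (Nat.card_congr (MonoidHom.ofInjective hfinj).toEquiv).symm
      have h2 : zm M f.range = zm M (ts H ν') := by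
        ext m
        constructor
        · intro hm b hb
          rw [← br_eq_one]
          apply hinj _ (th_br (hE'.le hb) m)
          rw [← hbr b hb m, br_eq_one]
          exact hm _ ⟨⟨b, hb⟩, rfl⟩
        · rintro hm _ ⟨b, rfl⟩
          rw [← br_eq_one, hf, hbr b b.2, br_eq_one.mpr (hm b b.2), br_one]
      rw [h1, h2, hE'.card]
    · intro u
      rcases hE'.full u with h1 | h1
      · left
        rintro _ ⟨b, rfl⟩
        rw [← br_eq_one, hf, hbr b b.2, br_eq_one.mpr (h1 b b.2), br_one]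
      · right
        intro v hv
        obtain ⟨x, hx, hxv⟩ := hsurj v hv
        obtain ⟨b, hb, hbx⟩ := h1 x hx
        exact ⟨f ⟨b, hb⟩, ⟨⟨b, hb⟩, rfl⟩, by rw [hf, hbr b hb, hbx, hxv]⟩
  have heq : f.range = ts H ν := by
    apply Subgroup.eq_of_le_of_card_ge (D.le_ts hle)
    rw [(Nat.card_congr (MonoidHom.ofInjective hfinj).toEquiv).symm]
    exact (D.card_ts hν hν').le
  rw [← heq] at hh
  obtain ⟨b, hb⟩ := hh
  obtain ⟨x, hx, hx1⟩ := hmov
  apply hx1
  rw [← br_eq_one, ← hb, hf, hbr b b.2, br_eq_one.mpr (th_fix (hE'.le b.2) hx), br_one]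

/-! ### `th ρ` for `ρ` without line vectors -/

section rho

variable (hρ : ∀ ν ∈ Lam, ∀ r ∈ ρ, r ∈ ν → r = 1) (hc : ∀ ν ∈ Lam, Nat.card ν = Nat.card ρ)
include hρ hc

theorem rho_inj (D : TL H Lam) (hν : ν ∈ Lam) {g : H} (hg : g ∈ (th ρ : Subgroup H))
    (hmov : ∃ x ∈ ν, g • x ≠ x) : ∀ x ∈ ν, br g x = 1 → x = 1 :=
  D.br_inj (ρ := ρ) hν (fun x _ _ hx' => hρ ν hν _ (th_br hg x) hx') (th_br hg) hmov

/-- (a) `g ∈ th ρ` moves `ν ∈ Lam` implies that `ts ν` centralises `ρ` -/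
theorem ts_fix_rho (D : TL H Lam) (hν : ν ∈ Lam) {g : H} (hg : g ∈ (th ρ : Subgroup H))
    (hmov : ∃ x ∈ ν, g • x ≠ x) {b : H} (hb : b ∈ ts H ν) {u : M} (hu : u ∈ ρ) : b • u = u := by
  have hinj := D.rho_inj hρ hc hν hg hmov
  have hsurj := D.surj_of_inj (fun x _ => th_br hg x) (hc ν hν) hinj
  have hE := D.ef_ts hν
  rcases hE.full u with h1 | h1
  · exact h1 b hb
  · -- `[v, g] = u`, `[u, c] = v`
    obtain ⟨v, hv, hvu⟩ := hsurj u hu
    obtain ⟨c, hc', hcv⟩ := h1 v hv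
    have h2 : c • u = g • v := by
      rw [smul_br c u, smul_br g v, hcv, hvu, mul_comm]
    have h3 : u = 1 := by
      refine hρ ((c⁻¹ * g) • ν) (D.inv ν hν _) u hu ?_
      have h4 : u = (c⁻¹ * g) • v := by rw [mul_smul, ← h2, inv_smul_smul]
      rw [h4]
      exact smul_mem_pointwise_smul _ _ _ hv
    rw [h3, smul_one]

/-- `[[m, b], g] = [m, g b g b]` for `b ∈ ts ν`, `ν` moved by `th ρ`, `g ∈ th ρ` -/
theorem rho_br (D : TL H Lam) (hν : ν ∈ Lam) {g' : H} (hg' : g' ∈ (th ρ : Subgroup H))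
    (hmov : ∃ x ∈ ν, g' • x ≠ x) {g b : H} (hg : g ∈ (th ρ : Subgroup H)) (hb : b ∈ ts H ν) (m : M) :
    br (g * b * g * b) m = br g (br b m) :=
  D.br_comm (fun m => D.ts_fix_rho hρ hc hν hg' hmov hb (th_br hg m)) (fun m => th_fix hg (th_br hg m))
    (fun m => th_fix ((D.ef_ts hν).le hb) (th_br ((D.ef_ts hν).le hb) m)) m

theorem rho_mem (D : TL H Lam) (hν : ν ∈ Lam) {g' : H} (hg' : g' ∈ (th ρ : Subgroup H))
    (hmov : ∃ x ∈ ν, g' • x ≠ x) {g b : H} (hg : g ∈ (th ρ : Subgroup H)) (hb : b ∈ ts H ν) :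
    g * b * g * b ∈ (th ρ : Subgroup H) := by
  refine ⟨fun a ha => ?_, fun m => ?_⟩
  · rw [← br_eq_one, D.rho_br hρ hc hν hg' hmov hg hb,
      br_eq_one.mpr (D.ts_fix_rho hρ hc hν hg' hmov hb ha), br_one]
  · rw [D.rho_br hρ hc hν hg' hmov hg hb]; exact th_br hg _

/-- **TL2, field-free** -/
theorem th_eq_bot (D : TL H Lam) (hν₀ : ν ∈ Lam) (hB : EF ν B) (hB1 : B ≠ ⊥) : (th ρ : Subgroup H) = ⊥ := by
  have := D.finH
  have := D.finM
  rw [eq_bot_iff]
  intro g₀ hg₀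
  rw [mem_bot]
  by_contra hg1
  -- `S`
  let S : Set (Subgroup M) := {ν | ν ∈ Lam ∧ ∃ g ∈ (th ρ : Subgroup H), ∃ x ∈ ν, g • x ≠ x}
  -- conjugation
  have hSc : ∀ ν ∈ S, ∀ x : H, (∀ g ∈ (th ρ : Subgroup H), x * g * x⁻¹ ∈ (th ρ : Subgroup H)) → x • ν ∈ S := by
    rintro ν ⟨hν, g, hg, y, hy, hgy⟩ x hx
    refine ⟨D.inv ν hν x, x * g * x⁻¹, hx g hg, x • y, smul_mem_pointwise_smul _ _ _ hy, fun e => hgy ?_⟩
    rw [mul_smul, mul_smul, inv_smul_smul, smul_left_cancel_iff] at e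
    exact e
  -- `ts ν`, `ν ∈ S`, centralises `ρ`
  have hfix : ∀ ν ∈ S, ∀ b ∈ ts H ν, ∀ a ∈ ρ, b • a = a := by
    rintro ν ⟨hν, g, hg, hmov⟩ b hb a ha
    exact D.ts_fix_rho hρ hc hν hg hmov hb ha
  have hnorm : ∀ x : H, (∀ a ∈ ρ, x • a = a) → ∀ g ∈ (th ρ : Subgroup H), x * g * x⁻¹ ∈ (th ρ : Subgroup H) := by
    intro x hx g hg
    have h1 := conj_mem_th (g := x) hg
    rwa [smul_fix hx] at h1
  -- (c) `ts ν`, `ν ∈ S`, moves only members of `S`
  have hc2 : ∀ ν ∈ S, ∀ ν' ∈ Lam, (∃ b ∈ ts H ν, ∃ x ∈ ν', b • x ≠ x) → ν' ∈ S := by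
    rintro ν ⟨hν, g, hg, hmov⟩ ν' hν' ⟨b, hb, x, hx, hbx⟩
    refine ⟨hν', g * b * g * b, D.rho_mem hρ hc hν hg hmov hg hb, x, hx, fun e => hbx ?_⟩
    rw [← br_eq_one, D.rho_br hρ hc hν hg hmov hg hb] at e
    exact br_eq_one.mp (D.rho_inj hρ hc hν hg hmov _ (th_br ((D.ef_ts hν).le hb) x) e)
  have hc3 : ∀ ν ∈ Lam, ν ∉ S → ∀ ν' ∈ S, ∀ b ∈ ts H ν, ∀ x ∈ ν', b • x = x := by
    intro ν hν hνS ν' hν' b hb x hx
    by_contra hne
    exact hνS (hc2 ν' hν' ν hν (D.arrow_symm hν hν'.1 hb ⟨x, hx, hne⟩))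
  -- `X_S`, `N`
  let XS : Subgroup H := closure {x | ∃ ν ∈ S, x ∈ ts H ν}
  let N : Subgroup H := closure {x | ∃ ν ∈ Lam, x ∈ ts H ν}
  let E : Subgroup H := closure {x | ∃ ν ∈ S, ∃ g ∈ (th ρ : Subgroup H), ∃ b ∈ ts H ν, x = g * b * g * b}
  have hXfix : ∀ x ∈ XS, ∀ a ∈ ρ, x • a = a := by
    intro x hx a ha
    have : XS ≤ MulAction.stabilizer H a := by
      rw [closure_le]
      rintro b ⟨ν, hν, hb⟩
      exact hfix ν hν b hb a ha
    exact this hx
  -- a subgroup generated by a conjugation-invariant set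
  have hgen : ∀ (s : Set H) (x : H), (∀ y ∈ s, x * y * x⁻¹ ∈ closure s) → (∀ y ∈ s, x⁻¹ * y * x ∈ closure s) →
      x ∈ normalizer ((closure s : Subgroup H) : Set H) := by
    intro s x h1 h2
    rw [mem_normalizer_iff]
    have key : ∀ x : H, (∀ y ∈ s, x * y * x⁻¹ ∈ closure s) → ∀ y ∈ closure s, x * y * x⁻¹ ∈ closure s := by
      intro x h1 y hy
      have h3 : closure s ≤ (closure s).comap (MulAut.conj x).toMonoidHom := by
        rw [closure_le]
        intro y hy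
        exact h1 y hy
      exact h3 hy
    intro y
    refine ⟨key x h1 y, fun hy => ?_⟩
    have h3 := key x⁻¹ (fun y hy => by rw [inv_inv]; exact h2 y hy) _ hy
    have e : x⁻¹ * (x * y * x⁻¹) * x⁻¹⁻¹ = y := by group
    rwa [e] at h3
  have hEth : E ≤ th ρ := by
    rw [closure_le]
    rintro _ ⟨ν, ⟨hν, g', hg', hmov⟩, g, hg, b, hb, rfl⟩
    exact D.rho_mem hρ hc hν hg' hmov hg hb
  have hE2 : IsPGroup 2 E := (D.th_two ρ).to_le hEth
  have hthS : ∀ ν ∈ S, ∀ g ∈ (th ρ : Subgroup H), g • ν ∈ S := fun ν hν g hg =>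
    hSc ν hν g fun g' hg' => mul_mem (mul_mem hg hg') (inv_mem hg)
  have hEX : E ≤ XS := by
    rw [closure_le]
    rintro _ ⟨ν, hν, g, hg, b, hb, rfl⟩
    have h1 : g * b * g⁻¹ ∈ XS := subset_closure ⟨g • ν, hthS ν hν g hg, D.conj_mem_ts hν.1 g hb⟩
    have h2 : b ∈ XS := subset_closure ⟨ν, hν, hb⟩
    rw [D.th_inv hg] at h1
    exact mul_mem h1 h2
  have hXE : XS ≤ normalizer (E : Set H) := by
    rw [closure_le]
    have key : ∀ x : H, (∀ a ∈ ρ, x • a = a) → ∀ y ∈ {x | ∃ ν ∈ S, ∃ g ∈ (th ρ : Subgroup H), ∃ b ∈ ts H ν,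
        x = g * b * g * b}, x * y * x⁻¹ ∈ E := by
      rintro x hx _ ⟨ν, hν, g, hg, b, hb, rfl⟩
      refine subset_closure ⟨x • ν, hSc ν hν x (hnorm x hx), x * g * x⁻¹, hnorm x hx g hg, x * b * x⁻¹,
        D.conj_mem_ts hν.1 x hb, ?_⟩
      group
    rintro x ⟨ν, hν, hxν⟩
    refine hgen _ x (key x (hfix ν hν x hxν)) fun y hy => ?_
    have h1 := key x⁻¹ (fun a ha => hfix ν hν _ (inv_mem hxν) a ha) y hy
    rwa [inv_inv] at h1
  have hNX : N ≤ normalizer (XS : Set H) := by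
    rw [closure_le]
    rintro x ⟨ν, hν, hxν⟩
    by_cases hνS : ν ∈ S
    · exact le_normalizer (subset_closure ⟨ν, hνS, hxν⟩)
    · have key : ∀ x ∈ ts H ν, ∀ y ∈ {x | ∃ ν ∈ S, x ∈ ts H ν}, x * y * x⁻¹ ∈ XS := by
        rintro x hx y ⟨ν', hν', hy⟩
        have h1 := D.conj_mem_ts hν'.1 x hy
        rw [smul_fix (hc3 ν hν hνS ν' hν' x hx)] at h1
        exact subset_closure ⟨ν', hν', h1⟩
      refine hgen _ x (key x hxν) fun y hy => ?_
      have h1 := key x⁻¹ (inv_mem hxν) y hy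
      rwa [inv_inv] at h1
  have hN : ∀ x : H, x ∈ normalizer (N : Set H) := by
    intro x
    have key : ∀ x : H, ∀ y ∈ {x | ∃ ν ∈ Lam, x ∈ ts H ν}, x * y * x⁻¹ ∈ N := by
      rintro x y ⟨ν', hν', hy⟩
      exact subset_closure ⟨x • ν', D.inv ν' hν' x, D.conj_mem_ts hν' x hy⟩
    refine hgen _ x (key x) fun y hy => ?_
    have h1 := key x⁻¹ y hy
    rwa [inv_inv] at h1
  have hXN : XS ≤ N := closure_mono fun x ⟨ν, hν, hx⟩ => ⟨ν, hν.1, hx⟩
  -- `O₂(X_S) = 1`
  have hE1 : E = ⊥ := by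
    have h1 : E ≤ o2 XS := le_o2 hEX hE2 hXE
    have h2 : o2 XS ≤ o2 N := le_o2 ((o2_le _).trans hXN) (o2_isPGroup _)
      (hNX.trans (norm_o2 XS))
    have h3 : o2 N = ⊥ := by
      refine D.oo _ ?_ (o2_isPGroup _)
      rw [← normalizer_eq_top_iff, eq_top_iff]
      exact fun x _ => norm_o2 N (hN x)
    rw [eq_bot_iff, ← h3]
    exact h1.trans h2
  -- but `E ≠ 1`
  obtain ⟨ν₁, hν₁, x, hx, hgx⟩ : ∃ ν₁ ∈ Lam, ∃ x ∈ ν₁, g₀ • x ≠ x := by
    by_contra hcon
    push Not at hcon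
    apply hg1
    refine D.faith _ fun m => ?_
    have h1 : cv M ({g₀} : Set H) = ⊤ := D.gen _ fun ν₁ hν₁ x hx b hb => by
      rw [Set.mem_singleton_iff.mp hb]; exact hcon ν₁ hν₁ x hx
    have h2 : m ∈ cv M ({g₀} : Set H) := by rw [h1]; exact mem_top m
    exact h2 g₀ rfl
  have hS₁ : ν₁ ∈ S := ⟨hν₁, g₀, hg₀, x, hx, hgx⟩
  obtain ⟨b, hb, hb1⟩ : ∃ b ∈ ts H ν₁, b ≠ 1 := by
    by_contra hcon
    push Not at hcon
    apply D.ts_ne_bot hν₀ hν₁ hB hB1
    rw [eq_bot_iff]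
    intro b hb
    rw [mem_bot]; exact hcon b hb
  apply hb1
  refine D.faith _ fun m => ?_
  have h1 : g₀ * b * g₀ * b = 1 := by
    have h2 : g₀ * b * g₀ * b ∈ E := subset_closure ⟨ν₁, hS₁, g₀, hg₀, b, hb, rfl⟩
    rw [hE1] at h2
    exact mem_bot.mp h2
  rw [← br_eq_one]
  apply D.rho_inj hρ hc hν₁ hg₀ ⟨x, hx, hgx⟩ _ (th_br ((D.ef_ts hν₁).le hb) m)
  rw [← D.rho_br hρ hc hν₁ hg₀ ⟨x, hx, hgx⟩ hg₀ hb, h1, br_eq_one, one_smul]

end rho

end TL

/-! ### the orbit of one subgroup -/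

variable {lam : Subgroup M}

theorem th_le_fixer : (th lam : Subgroup H) ≤ fixer lam := fun _ hh a ha => th_fix hh ha

/-- `th lam ≤ O₂(C_H(lam))` -/
theorem th_le_o2 (sq : ∀ m : M, m * m = 1) (faith : ∀ h : H, (∀ m : M, h • m = m) → h = 1) :
    (th lam : Subgroup H) ≤ o2 (fixer lam) := by
  have hsq : ∀ h ∈ (th lam : Subgroup H), h * h = 1 := by
    intro h hh
    refine faith _ fun m => ?_
    rw [mul_smul, smul_br h m, smul_mul', th_fix hh (th_br hh m), smul_br h m, ← mul_assoc, sq, one_mul]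
  refine le_o2 th_le_fixer ?_ ?_
  · intro x
    refine ⟨1, Subtype.ext ?_⟩
    rw [pow_one, pow_two]
    exact hsq x x.2
  · intro c hc
    have key : ∀ c ∈ (fixer lam : Subgroup H), ∀ h ∈ (th lam : Subgroup H), c * h * c⁻¹ ∈ (th lam : Subgroup H) := by
      intro c hc h hh
      have := conj_mem_th (g := c) hh
      rwa [smul_fix hc] at this
    rw [mem_normalizer_iff]
    intro x
    refine ⟨key c hc x, fun hx => ?_⟩
    have h1 := key c⁻¹ (inv_mem hc) _ hx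
    have e : c⁻¹ * (c * x * c⁻¹) * c⁻¹⁻¹ = x := by group
    rwa [e] at h1

/-- (NO) for `th lam` from (NO) for `O₂(C_H(lam))` (`NoOv lam` of `FlagK.lean`, unfolded) -/
theorem no_of_noOv (sq : ∀ m : M, m * m = 1) (faith : ∀ h : H, (∀ m : M, h • m = m) → h = 1)
    (hNO : ∀ A : Subgroup H, A ≤ o2 (fixer lam) → (∀ a ∈ A, ∀ b ∈ A, a * b = b * a) → (∀ a ∈ A, a * a = 1) →
      (∀ a ∈ A, ∀ b ∈ A, ∀ m : M, b • ((a • m) * m⁻¹) = (a • m) * m⁻¹) → Nat.card A ≤ (zm M A).index) :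
    ∀ B : Subgroup H, B ≤ th lam → Nat.card B ≤ (zm M B).index := by
  have hsq : ∀ h ∈ (th lam : Subgroup H), h * h = 1 := by
    intro h hh
    refine faith _ fun m => ?_
    rw [mul_smul, smul_br h m, smul_mul', th_fix hh (th_br hh m), smul_br h m, ← mul_assoc, sq, one_mul]
  intro B hB
  refine hNO B (hB.trans (th_le_o2 sq faith)) (fun a ha b hb => ?_) (fun a ha => hsq a (hB ha))
    fun a ha b hb m => th_fix (hB hb) (th_br (hB ha) m)
  have h1 := hsq _ (mul_mem (hB ha) (hB hb))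
  have h2 : a * b = b⁻¹ * a⁻¹ := by
    rw [← mul_inv_rev]; exact eq_inv_of_mul_eq_one_left h1
  have ha' : a⁻¹ = a := inv_eq_of_mul_eq_one_right (hsq a (hB ha))
  have hb' : b⁻¹ = b := inv_eq_of_mul_eq_one_right (hsq b (hB hb))
  rw [h2, ha', hb']

/-- the class of `lam` -/
theorem tl_orbit (finH : Finite H) (finM : Finite M) (sq : ∀ m : M, m * m = 1)
    (faith : ∀ h : H, (∀ m : M, h • m = m) → h = 1) (oo : ∀ N : Subgroup H, N.Normal → IsPGroup 2 N → N = ⊥)
    (ti : ∀ h : H, ∀ a ∈ lam, a ≠ 1 → h • a ∈ lam → ∀ b ∈ lam, h • b ∈ lam)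
    (gen : ∀ N : Subgroup M, (∀ h : H, ∀ a ∈ lam, h • a ∈ N) → N = ⊤)
    (no : ∀ B : Subgroup H, B ≤ th lam → Nat.card B ≤ (zm M B).index) :
    TL H {ν : Subgroup M | ∃ h : H, ν = h • lam} where
  finH := finH
  finM := finM
  sq := sq
  faith := faith
  oo := oo
  inv := by
    rintro _ ⟨h, rfl⟩ g
    exact ⟨g * h, by rw [mul_smul]⟩
  trans := by
    rintro _ ⟨h, rfl⟩ _ ⟨g, rfl⟩
    exact ⟨g * h⁻¹, by rw [mul_smul, inv_smul_smul]⟩
  ti := by
    have := finH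
    have := finM
    rintro _ ⟨h, rfl⟩ _ ⟨g, rfl⟩ x hx hx' hx1
    rw [mem_pointwise_smul_iff_inv_smul_mem] at hx hx'
    have key : ∀ h g : H, h⁻¹ • x ∈ lam → g⁻¹ • x ∈ lam → h • lam ≤ g • lam := by
      intro h g hx hx' y hy
      rw [mem_pointwise_smul_iff_inv_smul_mem] at hy ⊢
      have h1 : h⁻¹ • x ≠ 1 := fun e => hx1 (by rw [inv_smul_eq_iff, smul_one] at e; exact e)
      have h2 := ti (g⁻¹ * h) _ hx h1 (by rw [mul_smul, smul_inv_smul]; exact hx') _ hy
      rwa [mul_smul, smul_inv_smul] at h2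
    exact le_antisymm (key h g hx hx') (key g h hx' hx)
  gen := by
    intro N hN
    refine gen N fun h a ha => ?_
    exact hN (h • lam) ⟨h, rfl⟩ (smul_mem_pointwise_smul _ _ _ ha)
  no := by
    rintro _ ⟨h, rfl⟩ B hB
    have h1 : cj h⁻¹ B ≤ th lam := by
      intro b hb
      have h2 := conj_mem_th (g := h⁻¹) (hB (mem_cj.mp hb))
      rw [inv_smul_smul] at h2
      have e : h⁻¹ * (h⁻¹⁻¹ * b * h⁻¹) * h⁻¹⁻¹ = b := by group
      rwa [e] at h2
    have h2 := no _ h1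
    rwa [card_cj, index_zm_cj] at h2

/-- **TL2, field-free** (937 #18718 section 3). `lam` : (TI), `M = ⟨lam^H⟩`, `O₂(H) = 1`, (NO) for `th lam`; `A ≠ 1` is
an exact and full subgroup of `th lam`. If `|ρ| = |lam|` and `ρ` contains no line vector then `th ρ = 1`. -/
theorem tl2 (finH : Finite H) (finM : Finite M) (sq : ∀ m : M, m * m = 1)
    (faith : ∀ h : H, (∀ m : M, h • m = m) → h = 1) (oo : ∀ N : Subgroup H, N.Normal → IsPGroup 2 N → N = ⊥)
    (ti : ∀ h : H, ∀ a ∈ lam, a ≠ 1 → h • a ∈ lam → ∀ b ∈ lam, h • b ∈ lam)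
    (gen : ∀ N : Subgroup M, (∀ h : H, ∀ a ∈ lam, h • a ∈ N) → N = ⊤)
    (no : ∀ B : Subgroup H, B ≤ th lam → Nat.card B ≤ (zm M B).index)
    {A : Subgroup H} (hA : EF lam A) (hA1 : A ≠ ⊥) {ρ : Subgroup M} (hc : Nat.card lam = Nat.card ρ)
    (hρ : ∀ r ∈ ρ, ∀ h : H, h • r ∈ lam → r = 1) : (th ρ : Subgroup H) = ⊥ := by
  refine TL.th_eq_bot (Lam := {ν : Subgroup M | ∃ h : H, ν = h • lam}) (ν := lam) ?_ ?_
    (tl_orbit finH finM sq faith oo ti gen no) ⟨1, (one_smul H lam).symm⟩ hA hA1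
  · rintro _ ⟨h, rfl⟩ r hr hr'
    rw [mem_pointwise_smul_iff_inv_smul_mem] at hr'
    exact hρ r hr h⁻¹ hr'
  · rintro _ ⟨h, rfl⟩
    rw [← hc]
    exact (Nat.card_congr (Subgroup.equivSMul h lam).toEquiv).symm

end Cfsg.Agent.Omega.NO3S.FarQ.Free.TLTwo
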