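import Cfsg.Agent.Omega.NO3S.FarQ.Free.FullG
import Cfsg.Agent.Omega.NO3S.FarQ.Free.Bad
import Cfsg.Agent.Omega.NO3S.FarQ.Free.Base
import Cfsg.Agent.Omega.NO3S.FarQ.Free.TLTwo

/-!
# FarQ, K-free: (4.1) of helper937 #18718 without `R_p ∩ W_q = 1` (helper404 #19545, (E5))

`TP inc R W p q` : `[v, b] ∈ R_p` implies `[v, b] = 1`, `v ∈ R_x`, `x ∼ p`, `b ∈ W_q`.

* `tp_of` : `TP` if `(p, q)` has no pair with (D); `TP.good`;
* `tlTwo` : `TLTwo H M lam` from `Flag` and (NO) and (TI);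
* `fl'`, `false_of_tp` : helper961's `fl`, `false_of_bad` with `TP p q` instead of `R_p ∩ W_q = 1`.
-/

set_option autoImplicit false
set_option linter.unusedSectionVars false

namespace Cfsg.Agent.Omega.NO3S.FarQ.Free

open Subgroup Cfsg Cfsg.Agent.ZN Cfsg.Agent.MinSimple.VModule Cfsg.Agent.Omega.NOThree.Pts
open Cfsg.Agent.Omega.NO3S.FarQ.Glue Cfsg.Agent.Omega.NOThree

variable {G X L : Type*} [Group G] [MulAction G X] [MulAction G L]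
variable {inc : X → L → Prop} {R W : X → Subgroup G} {V : L → Subgroup G} {s t n : ℕ}
variable {H M K : Type*} [Group H] [CommGroup M] [MulDistribMulAction H M] [CommGroup K]
variable {p q x₁ : X} {l l' : L} {Sy : Subgroup G} {ρ ρ' : G → H} {π π' : G → M} {ζ : K →* G}
variable {T : Subgroup H} {lam U : Subgroup M} {Kh : Subgroup (M →* K)}

/-- `(x, f)` with (D) at `(p, q)` -/
def DP (inc : X → L → Prop) (W : X → Subgroup G) (p q : X) : Prop :=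
  ∃ x m f, inc x m ∧ inc p m ∧ f ∈ W q ∧ f • x ≠ x ∧ ∀ a ∈ W x, a ∈ W (f • x) → a ∈ W p

/-- `[v, b] ∈ R_p` implies `[v, b] = 1`, `v ∈ R_x`, `x ∼ p`, `b ∈ W_q` -/
def TP (inc : X → L → Prop) (R W : X → Subgroup G) (p q : X) : Prop :=
  ∀ x m, inc x m → inc p m → ∀ v ∈ R x, ∀ b ∈ W q, b * v * b⁻¹ * v⁻¹ ∈ R p → b * v = v * b

theorem tp_of (D : Geom inc R W V s t) (hc : Crit inc W n p q) (hn : 1 ≤ n) (hnd : ¬ DP inc W p q) :
    TP inc R W p q := by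
  intro x m hxm hpm v hv b hb h1
  by_contra h2
  have hv1 : v ≠ 1 := by
    rintro rfl
    exact h2 (by rw [mul_one, one_mul])
  have hxp : x ≠ p := by
    rintro rfl
    exact h2 (hc.symm.comm_R D hn hb hv)
  have hbx : b • x ≠ x := by
    intro e
    have h3 : b * v * b⁻¹ * v⁻¹ ∈ R x := mul_mem (D.norm_R e hv) (inv_mem hv)
    refine hxp (D.ti x p _ h3 h1 fun h4 => h2 ?_)
    rwa [mul_inv_eq_one, mul_inv_eq_iff_eq_mul] at h4
  have h3 : inc (b • x) m := Bad.inc_of_comm D hxm hpm hv hv1 h1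
  exact hnd ⟨x, m, b, hxm, hpm, hb, hbx, fun a ha ha' => D.inf_le hxm h3 hpm hbx.symm ⟨ha, ha'⟩⟩

theorem TP.good (D : Geom inc R W V s t) (h : TP inc R W p q) :
    ∀ b ∈ W q, (∀ u ∈ W p, b * u * b⁻¹ * u⁻¹ ∈ R p) → ∀ u ∈ W p, b * u = u * b := by
  intro b hb hbu u hu
  have h1 : W p ≤ centralizer ({b} : Set G) := by
    refine D.W_le p _ fun m hm v hv => ?_
    obtain ⟨x, hx, hvx⟩ := D.cover m v hv
    rw [mem_centralizer_singleton_iff]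
    exact (h x m hx hm v hvx b hb (hbu v (D.V_le p m hm hv))).symm
  exact (mem_centralizer_singleton_iff.1 (h1 hu)).symm

/-- **TL2 over a flag** -/
theorem tlTwo (F : Flag T lam U Kh) (hNO : NoOv (H := H) lam)
    (ti : ∀ h : H, ∀ a ∈ lam, a ≠ 1 → h • a ∈ lam → ∀ b ∈ lam, h • b ∈ lam) : TLTwo H M lam := by
  intro B g rho hB hBf hBl hBe hBF hg hgr hrg hcr
  by_contra hcon
  push Not at hcon
  have h1 := TLTwo.tl2 F.finH F.finM F.sq F.faith (fun N hN hN2 => by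
    have := hN
    exact eq_bot_of_normal F hN2) ti F.gen (TLTwo.no_of_noOv F.sq F.faith hNO) (A := B) ⟨?_, hBe, ?_⟩ hB hcr.symm ?_
  · have h2 : g ∈ (TLTwo.th rho : Subgroup H) := ⟨hrg, hgr⟩
    rw [h1, mem_bot] at h2
    exact hg h2
  · exact fun b hb => ⟨hBf hb, hBl b hb⟩
  · intro u
    by_cases hu : u ∈ zm M B
    · exact Or.inl hu
    · exact Or.inr fun v hv => hBF u hu v hv
  · intro r hr h hh
    by_contra hr1
    exact hcon r hr hr1 h⁻¹ _ hh (inv_smul_smul h r).symm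

/-- (TI) for the translates of `lam` -/
theorem lam_ti (D : Geom inc R W V s t) (F : RD inc R W V p l Sy ρ π ζ T lam U Kh) :
    ∀ h : H, ∀ a ∈ lam, a ≠ 1 → h • a ∈ lam → ∀ b ∈ lam, h • b ∈ lam := by
  intro h a ha ha1 hha b hb
  obtain ⟨g, hg, rfl⟩ := F.re.surj h
  obtain ⟨v, hv, rfl⟩ := (F.mlam a).1 ha
  obtain ⟨w, hw, rfl⟩ := (F.mlam b).1 hb
  have hgp : g • p = p := Four.fix_p D hg
  have hvW : v ∈ W p := D.V_le p l F.pl hv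
  have hwW : w ∈ W p := D.V_le p l F.pl hw
  have hvR : v ∉ R p := fun e => ha1 ((F.re.pker v hvW).2 e)
  obtain ⟨x, hx, hvx⟩ := D.cover l v hv
  have hxp : x ≠ p := by
    rintro rfl
    exact hvR hvx
  have hv1 : v ≠ 1 := by
    rintro rfl
    exact hvR (one_mem _)
  -- `g x` on `l`
  have h1 : g * v * g⁻¹ ∈ V l := by
    rw [← F.re.act g hg v hvW] at hha
    obtain ⟨v', hv', h2⟩ := (F.mlam _).1 hha
    have h3 := mem_mul_R F.re (Four.norm_p D hg hvW) (D.V_le p l F.pl hv') h2.symm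
    have h4 := mul_mem (D.R_le p l F.pl h3) hv'
    rwa [inv_mul_cancel_right] at h4
  have h2 : inc (g • x) l := by
    obtain ⟨z, hz, hvz⟩ := D.cover l _ h1
    have h3 := D.ti _ _ _ (D.R_smul g x v hvx) hvz fun h0 => hv1 (conj_eq_one_iff.1 h0)
    rwa [h3]
  rw [← F.re.act g hg w hwW]
  obtain ⟨r, hr, r', hr', rfl⟩ := F.line x hx hxp w hw
  refine (F.mlam _).2 ⟨_, ?_, rfl⟩
  have e : g * (r * r') * g⁻¹ = (g * r * g⁻¹) * (g * r' * g⁻¹) := by group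
  rw [e]
  exact mul_mem (D.R_le p l F.pl (D.norm_R hgp hr)) (D.R_le _ l h2 (D.R_smul g x r' hr'))

section bad

variable (D : Geom inc R W V s t) (F : RD inc R W V p l Sy ρ π ζ T lam U Kh) (hc : Crit inc W n p q)
  (hn : 1 ≤ n) (hx₁ : inc x₁ l) (hx₁p : x₁ ≠ p) (htp : TP inc R W p q)
include D F hc hn hx₁ hx₁p htp

/-- the image of `W_q` is full on `lam` -/
theorem fl' (hex : Nat.card (im F.re (W q) (W_le_cent D hc hn)) = (zm M (im F.re (W q) (W_le_cent D hc hn))).index)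
    (hbad : ∀ f ∈ W q, ρ f ≠ 1 → ∃ h ∈ centralizer (R p : Set G), f • h • x₁ ≠ h • x₁ ∧
      ∀ v ∈ R (h • x₁), ∀ w ∈ W q, w * v * w⁻¹ * v⁻¹ ∈ V l) :
    Fl (LamF H lam) lam (im F.re (W q) (W_le_cent D hc hn)) where
  quad := by
    rintro _ ⟨f, hf, rfl⟩ _ ⟨f', hf', rfl⟩ m
    obtain ⟨w, hw, rfl⟩ := F.re.psurj m
    have hfc := W_le_cent D hc hn hf
    have hfc' := W_le_cent D hc hn hf'
    rw [← π_comm F.re D hfc hw]
    have h1 := comm_mem D hc.symm hn hf hw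
    rw [← F.re.act _ hfc' _ h1.2]
    congr 1
    rw [D.comm q f' hf' _ h1.1]
    group
  card := hex
  cardL := by
    rintro ν ⟨g, hg⟩
    refine Nat.card_congr ⟨fun m => ⟨g⁻¹ • (m : M), (hg m).1 m.2⟩, fun m => ⟨g • (m : M), (hg _).2 ?_⟩, ?_, ?_⟩
    · rw [inv_smul_smul]
      exact m.2
    · exact fun m => Subtype.ext (smul_inv_smul g (m : M))
    · exact fun m => Subtype.ext (inv_smul_smul g (m : M))
  ti := by
    rintro ν ⟨g, hg⟩ a - m hm hm1 ham m' hm'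
    have h1 := F.flag.lin (g⁻¹ • m) ((hg m).1 hm) (by
      intro e
      apply hm1
      rw [inv_smul_eq_iff, smul_one] at e
      exact e) (g⁻¹ * a * g) (by rw [mul_smul, mul_smul, smul_inv_smul, ham]) (g⁻¹ • m') ((hg m').1 hm')
    rw [mul_smul, mul_smul, smul_inv_smul] at h1
    exact (MulAction.injective g⁻¹) h1
  move := by
    rintro _ ⟨f, hf, rfl⟩ hf1
    obtain ⟨h, hh, hmv, hV⟩ := hbad f hf hf1
    have hhp : h • p = p := Four.fix_p D hh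
    have hhl : inc p (h • l) := by
      have h1 := D.inc_smul h p l F.pl
      rwa [hhp] at h1
    have hxl : inc (h • x₁) (h • l) := D.inc_smul h x₁ l hx₁
    have hRW : R (h • x₁) ≤ W p := Four.R_le_Wp D hxl hhl
    refine ⟨tr (ρ h) lam, tr_mem _, ?_, ?_⟩
    · rintro m hm _ ⟨w, hw, rfl⟩
      obtain ⟨v, hv, hv2⟩ := (F.mlam _).1 (mem_tr.1 hm)
      obtain ⟨r, hr, r', hr', rfl⟩ := F.line x₁ hx₁ hx₁p v hv
      have hrW : r ∈ W p := D.R_le_W p hr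
      have hr'W : r' ∈ W p := Four.R_le_Wp D hx₁ F.pl hr'
      have h1 : m = π (h * r' * h⁻¹) := by
        rw [F.re.act h hh r' hr'W]
        rw [F.re.pmul r hrW r' hr'W, (F.re.pker r hrW).2 hr, one_mul] at hv2
        rw [hv2, smul_inv_smul]
      have h2 : h * r' * h⁻¹ ∈ R (h • x₁) := D.R_smul h x₁ r' hr'
      rw [h1, ← π_comm F.re D (W_le_cent D hc hn hw) (hRW h2), F.mlam]
      exact ⟨_, hV _ h2 w hw, rfl⟩
    · obtain ⟨r', hr', hr1⟩ := D.exists_ne x₁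
      have hr'W : r' ∈ W p := Four.R_le_Wp D hx₁ F.pl hr'
      have h2 : h * r' * h⁻¹ ∈ R (h • x₁) := D.R_smul h x₁ r' hr'
      refine ⟨π (h * r' * h⁻¹), ?_, fun e => ?_⟩
      · rw [mem_tr, F.re.act h hh r' hr'W, inv_smul_smul, F.mlam]
        exact ⟨r', D.R_le x₁ l hx₁ hr', rfl⟩
      · have h3 := (comm_mem_iff F.re D (W_le_cent D hc hn hf) (hRW h2)).2 e
        exact hmv (D.fix h2 (fun h6 => hr1 (conj_eq_one_iff.1 h6)) (htp _ _ hxl hhl _ h2 f hf h3))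

variable [Finite G] (hq : ∀ r ∈ R q, r ∈ W p → r = 1)
include hq

/-- **(4.1)** without `R_p ∩ W_q = 1` -/
theorem false_of_tp (F' : RF inc R W V q l' ρ' π' lam U) (hTL : TLTwo H M lam) (hn3 : 3 ≤ n)
    (hex : Nat.card (im F.re (W q) (W_le_cent D hc hn)) = (zm M (im F.re (W q) (W_le_cent D hc hn))).index)
    (hfx : im F.re (W q) (W_le_cent D hc hn) ≤ fixer lam)
    (hbad : ∀ f ∈ W q, ρ f ≠ 1 → ∃ h ∈ centralizer (R p : Set G), f • h • x₁ ≠ h • x₁ ∧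
      ∀ v ∈ R (h • x₁), ∀ w ∈ W q, w * v * w⁻¹ * v⁻¹ ∈ V l) : False := by
  have := F.flag.finH
  have := F.flag.finM
  have fl := fl' D F hc hn hx₁ hx₁p htp hex hbad
  -- `w₀`, `f₀`
  obtain ⟨x₀, m₀, hx₀, hp₀, f₀, hf₀, w₀, hw₀R, hne⟩ := LemmaM.exists_moved D hc.ne
  have hw₀ : w₀ ∈ W p := Four.R_le_Wp D hx₀ hp₀ hw₀R
  have hWc := W_le_cent D hc hn
  have hWc' : W p ≤ centralizer (R q : Set G) := W_le_cent D hc.symm hn
  have hcm : ∀ w ∈ W q, w₀ * w * w₀⁻¹ * w⁻¹ ∈ W p ∧ w₀ * w * w₀⁻¹ * w⁻¹ ∈ W q := fun w hw =>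
    comm_mem D hc hn hw₀ hw
  have hρf₀ : ρ f₀ • π w₀ ≠ π w₀ := by
    intro e
    exact hne (htp _ _ hx₀ hp₀ _ hw₀R f₀ hf₀ ((comm_mem_iff F.re D (hWc hf₀) hw₀).2 e))
  have hA : im F.re (W q) hWc ≠ ⊥ := by
    intro e
    have h1 : ρ f₀ ∈ im F.re (W q) hWc := ⟨f₀, hf₀, rfl⟩
    rw [e, mem_bot] at h1
    exact hρf₀ (by rw [h1, one_smul])
  have hg1 : ρ' w₀ ≠ 1 := by
    intro e
    have h1 := (comm_mem_iff F'.re D (hWc' hw₀) hf₀).2 (by rw [e, one_smul])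
    have h2 := hq _ h1 (hcm f₀ hf₀).1
    rw [mul_inv_eq_one, mul_inv_eq_iff_eq_mul] at h2
    exact hne h2.symm
  -- the set of the commutators
  let C0 : Set G := {c | ∃ w ∈ W q, c = w₀ * w * w₀⁻¹ * w⁻¹}
  have hC0 : ∀ c ∈ C0, c ∈ W p ∧ c ∈ W q := by
    rintro _ ⟨w, hw, rfl⟩
    exact hcm w hw
  let rho : Subgroup M :=
    { carrier := {m | ∃ m' : M, (ρ' w₀ • m') * m'⁻¹ = m}
      one_mem' := ⟨1, by rw [smul_one, inv_one, mul_one]⟩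
      mul_mem' := by
        rintro _ _ ⟨a, rfl⟩ ⟨b, rfl⟩
        exact ⟨a * b, by rw [smul_mul', mul_inv]; exact mul_mul_mul_comm _ _ _ _⟩
      inv_mem' := by
        rintro _ ⟨a, rfl⟩
        exact ⟨a⁻¹, by rw [smul_inv', mul_inv]⟩ }
  have hπC : ∀ c ∈ C0, π c ∈ lam := by
    rintro _ ⟨w, hw, rfl⟩
    have h1 := fl.le (a := ρ w) ⟨w, hw, rfl⟩ (π w₀)
    rw [← π_comm F.re D (hWc hw) hw₀] at h1
    have h2 := comm_mem D hc.symm hn hw hw₀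
    have e2 : w₀ * w * w₀⁻¹ * w⁻¹ = (w * w₀ * w⁻¹ * w₀⁻¹)⁻¹ := by group
    rw [e2, π_inv F.re h2.2]
    exact inv_mem h1
  have hπ'C : ∀ w ∈ W q, π' (w₀ * w * w₀⁻¹ * w⁻¹) = (ρ' w₀ • π' w) * (π' w)⁻¹ := fun w hw =>
    π_comm F'.re D (hWc' hw₀) hw
  have hc1 : Nat.card C0 = Nat.card lam := by
    refine Nat.card_congr (Equiv.ofBijective (fun c => ⟨π c, hπC c c.2⟩) ⟨?_, ?_⟩)
    · rintro ⟨c, w, hw, rfl⟩ ⟨c', w', hw', rfl⟩ h
      have h1 : π (w₀ * w * w₀⁻¹ * w⁻¹) = π (w₀ * w' * w₀⁻¹ * w'⁻¹) := congrArg Subtype.val h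
      have h2 := mem_mul_R F.re (hcm w hw).1 (hcm w' hw').1 h1
      -- `[w₀, w] [w₀, w']⁻¹ = [w₀, w w'⁻¹]`
      have m1 : w₀ * w'⁻¹ * w₀⁻¹ ∈ W q := D.norm_W (hc.fix D hn hw₀) (inv_mem hw')
      have e3 : w₀ * w * w₀⁻¹ * w⁻¹ * (w₀ * w' * w₀⁻¹ * w'⁻¹)⁻¹ =
          w₀ * (w * w'⁻¹) * w₀⁻¹ * (w * w'⁻¹)⁻¹ := by
        have c1 := D.comm q _ (mul_mem (inv_mem hw) hw') _ m1
        have c2 := D.comm q _ (inv_mem hw) _ hw'
        calc w₀ * w * w₀⁻¹ * w⁻¹ * (w₀ * w' * w₀⁻¹ * w'⁻¹)⁻¹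
            = w₀ * w * w₀⁻¹ * ((w⁻¹ * w') * (w₀ * w'⁻¹ * w₀⁻¹)) := by group
          _ = w₀ * w * w₀⁻¹ * ((w₀ * w'⁻¹ * w₀⁻¹) * (w' * w⁻¹)) := by rw [c1, c2]
          _ = _ := by group
      have m2 : w * w'⁻¹ ∈ W q := mul_mem hw (inv_mem hw')
      rw [e3] at h2
      have h3 : (w * w'⁻¹) * w₀ * (w * w'⁻¹)⁻¹ * w₀⁻¹ ∈ R p := by
        have e4 : (w * w'⁻¹) * w₀ * (w * w'⁻¹)⁻¹ * w₀⁻¹ = (w₀ * (w * w'⁻¹) * w₀⁻¹ * (w * w'⁻¹)⁻¹)⁻¹ := by group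
        rw [e4]
        exact inv_mem h2
      have h4 := htp _ _ hx₀ hp₀ _ hw₀R _ m2 h3
      have h5 : w₀ * w * w₀⁻¹ * w⁻¹ * (w₀ * w' * w₀⁻¹ * w'⁻¹)⁻¹ = 1 := by
        rw [e3, ← h4]
        group
      exact Subtype.ext (mul_inv_eq_one.1 h5)
    · rintro ⟨a, ha⟩
      obtain ⟨_, ⟨w, hw, rfl⟩, h2⟩ := fl.full (m := π w₀) (fun h => hρf₀ (h _ ⟨f₀, hf₀, rfl⟩)) (inv_mem ha)
      refine ⟨⟨w₀ * w * w₀⁻¹ * w⁻¹, w, hw, rfl⟩, Subtype.ext ?_⟩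
      change π (w₀ * w * w₀⁻¹ * w⁻¹) = a
      have h3 := comm_mem D hc.symm hn hw hw₀
      have e2 : w₀ * w * w₀⁻¹ * w⁻¹ = (w * w₀ * w⁻¹ * w₀⁻¹)⁻¹ := by group
      rw [e2, π_inv F.re h3.2, π_comm F.re D (hWc hw) hw₀, h2, inv_inv]
  have hc2 : Nat.card C0 = Nat.card rho := by
    refine Nat.card_congr (Equiv.ofBijective (fun c => ⟨π' c, ?_⟩) ⟨?_, ?_⟩)
    · obtain ⟨c, w, hw, rfl⟩ := c
      exact ⟨π' w, (hπ'C w hw).symm⟩
    · rintro ⟨c, hc1⟩ ⟨c', hc2⟩ h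
      have h1 : π' c = π' c' := congrArg Subtype.val h
      have h2 := mem_mul_R F'.re (hC0 c hc1).2 (hC0 c' hc2).2 h1
      have h3 := hq _ h2 (mul_mem (hC0 c hc1).1 (inv_mem (hC0 c' hc2).1))
      exact Subtype.ext (mul_inv_eq_one.1 h3)
    · rintro ⟨_, m', rfl⟩
      obtain ⟨w, hw, rfl⟩ := F'.re.psurj m'
      exact ⟨⟨w₀ * w * w₀⁻¹ * w⁻¹, w, hw, rfl⟩, Subtype.ext (hπ'C w hw)⟩
  obtain ⟨m, ⟨m', hm'⟩, hm1, h, a, ha, hma⟩ := hTL (im F.re (W q) hWc) (ρ' w₀) rho hA hfx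
    (fun b hb m => fl.le hb m) hex (fun m hm b hb => fl.full hm hb) hg1 (fun m => ⟨m, rfl⟩) (by
      rintro _ ⟨m', rfl⟩
      obtain ⟨w, hw, rfl⟩ := F'.re.psurj m'
      rw [← hπ'C w hw, ← F'.re.act w₀ (hWc' hw₀) _ (hcm w hw).2]
      congr 1
      rw [D.comm p w₀ hw₀ _ (hcm w hw).1]
      group) (hc2.symm.trans hc1)
  obtain ⟨w, hw, rfl⟩ := F'.re.psurj m'
  rw [← hπ'C w hw] at hm'
  set c := w₀ * w * w₀⁻¹ * w⁻¹ with hcdef
  have hcW := hcm w hw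
  have hcC : c ∈ C0 := ⟨w, hw, rfl⟩
  have hc1' : c ≠ 1 := by
    intro e
    apply hm1
    rw [← hm', e, π_one F'.re]
  obtain ⟨g₀, hg₀, rfl⟩ := F'.re.surj h
  obtain ⟨v, hv, rfl⟩ := (F'.mlam a).1 ha
  have hg₀q : g₀ • q = q := Four.fix_p D hg₀
  have hql : inc q (g₀ • l') := by
    have h1 := D.inc_smul g₀ q l' F'.pl
    rwa [hg₀q] at h1
  have hvW : v ∈ W q := D.V_le q l' F'.pl hv
  -- `c ∈ V (g₀ l')`
  have hcV' : c ∈ V (g₀ • l') := by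
    have h1 : π' c = π' (g₀ * v * g₀⁻¹) := by rw [F'.re.act g₀ hg₀ v hvW, hm', hma]
    have h2 := mem_mul_R F'.re hcW.2 (Four.norm_p D hg₀ hvW) h1
    have h3 := mul_mem (D.R_le q _ hql h2) (D.V_smul g₀ l' v hv)
    rwa [inv_mul_cancel_right] at h3
  have hcV : c ∈ V l := by
    obtain ⟨v', hv', h1⟩ := (F.mlam _).1 (hπC c hcC)
    have h2 := mem_mul_R F.re hcW.1 (D.V_le p l F.pl hv') h1.symm
    have h3 := mul_mem (D.R_le p l F.pl h2) hv'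
    rwa [inv_mul_cancel_right] at h3
  obtain ⟨e, he, hce⟩ := D.cover _ c hcV'
  obtain ⟨e', he', hce'⟩ := D.cover _ c hcV
  obtain rfl := D.ti _ _ c hce hce' hc1'
  exact hc.not_walk (k := 2) (by omega) ((Walk.one F.pl he').step he hql)

end bad

end Cfsg.Agent.Omega.NO3S.FarQ.Free
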