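import Cfsg.Agent.Omega.NO3S.FarQ.Free.HD

/-!
# FarQ (`q ≥ 4`, `n ≥ 3`), K-free: terminal goal pairs (now in `Free/HD.lean`: `hB`, `hT`)
-/
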