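import Cfsg.Agent.Omega.NO3S.FarQ.Free.FullG
import Cfsg.Agent.Omega.NO3S.FarQ.Free.Term
import Cfsg.Agent.Omega.NO3S.FarQ.Free.Bad

/-!
# FarQ (`q ≥ 4`, `n ≥ 3`), K-free: `HB` and `HD` over `Frm` (piece (C) of #19123)

* `Frm.kf` : `KF` ((F1), (F2')) at the flag of `Frm`;
* `comm_V` : BAD movers of a path with `[W_{y 0}, W_{y (k+1)}] ≤ W_{y 1}` (helper533);
* `hB` : `HB`; `hD` : every goal pair has a mover with (D); `hT` : terminal pairs;
* `exists_dd` : the same for paths without type I on the side of `y 0` (helper404 #19545).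
-/

set_option autoImplicit false
set_option linter.unusedSectionVars false

namespace Cfsg.Agent.Omega.NO3S.FarQ.Free

open Subgroup Cfsg Cfsg.Agent.ZN Cfsg.Agent.MinSimple.VModule Cfsg.Agent.Omega.NOThree.Pts
open Cfsg.Agent.Omega.NO3S.FarQ.Glue Cfsg.Agent.Omega.NO3S.FarQ.Asm

variable {G X L : Type*} [Group G] [MulAction G X] [MulAction G L]
variable {inc : X → L → Prop} {R W : X → Subgroup G} {V : L → Subgroup G} {s t k : ℕ}
variable {H M K : Type*} [Group H] [CommGroup M] [MulDistribMulAction H M] [CommGroup K]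
variable {p : X} {l : L} {Sy : Subgroup G} {ρ : G → H} {π : G → M} {ζ : K →* G} {T : Subgroup H}
  {lam U : Subgroup M} {Kh : Subgroup (M →* K)}

/-- (F1), (F2') at the flag of `Frm` -/
theorem Frm.kf (D : Geom inc R W V s t) (F : Frm inc R W V p l Sy ρ π ζ T lam U Kh) : Bad.KF inc R W V p l where
  f1 _ hv hvp _ hr := Bad.f1_of_tr D F.pl F.tr hv hvp hr
  f2 u _ hu' huV r hr := by
    obtain ⟨c, hc, hcw, hcu⟩ := F.f2 u hu' huV p F.pl r hr
    exact ⟨c, centralizer_le (D.R_le p l F.pl) hc, hcw, fun v hv => (mem_centralizer_iff.1 hc v hv).symm, hcu⟩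

/-- (F1), (F2') at every flag -/
theorem Frm.kf_all (D : Geom inc R W V s t) (F : Frm inc R W V p l Sy ρ π ζ T lam U Kh) {x : X} {m : L}
    (h : inc x m) : Bad.KF inc R W V x m := by
  obtain ⟨_, _, _, _, F'⟩ := F.at_flag D h
  exact F'.kf D

/-- **BAD movers** of a path with (low) -/
theorem comm_V (D : Geom inc R W V s t) {y : ℕ → X} (hy : Pth inc W k y)
    (low : ∀ a ∈ W (y 0), ∀ b ∈ W (y (k + 1)), a * b * a⁻¹ * b⁻¹ ∈ W (y 1)) {m : L} (hkf : Bad.KF inc R W V (y 0) m)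
    (h0 : inc (y 0) m) (h1 : inc (y 1) m) {f h : G} (hf : f ∈ W (y (k + 1)))
    (hh : h ∈ centralizer (R (y 0) : Set G)) (ho : Odd (orderOf h)) (hi : f * h * f⁻¹ = h⁻¹)
    (hmv : f • h • y 1 ≠ h • y 1) (hdd : ¬ DD W y (h • y 1) f) :
    ∀ v ∈ R (h • y 1), ∀ w ∈ W (y (k + 1)), v * w * v⁻¹ * w⁻¹ ∈ V m := by
  intro v hv w hw
  refine Bad.Bp.comm_mem' (p := y 0) (y := y 1) (q := y (k + 1)) (f := f) (h := h) D ?_ hw hv
  refine ⟨hkf, h0, h1, (hy.ne_succ (Nat.zero_le _)).symm, fun a ha => W_le_cent D hy.crit (by omega) ha,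
    fun a ha b hb => ?_, fun a ha b hb => ?_, hf, hh, ⟨_, ho, pow_orderOf_eq_one h⟩, hi, hmv, fun hle => hdd ?_⟩
  · exact (hy.crit.min k (by omega) _ _ (by simpa using hy.wk' (i := 1) (j := k + 1) (by omega) le_rfl)).symm a ha b hb
  · have h2 := inv_mem (low b hb a ha)
    have e : (b * a * b⁻¹ * a⁻¹)⁻¹ = a * b * a⁻¹ * b⁻¹ := by group
    rwa [e] at h2
  · exact fun a ha ha' => hle ⟨ha, ha'⟩

section frm

variable [Finite G] (D : Geom inc R W V s t) (F : Frm inc R W V p l Sy ρ π ζ T lam U Kh)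
include D F

/-- **BAD over `Frm`** -/
theorem hB : HB inc R W V k := fun _ hy _ h0 h1 _ _ hf hh ho hi hmv hdd =>
  comm_V D hy.toPth hy.low (F.kf_all D h0) h0 h1 hf hh ho hi hmv hdd

/-- **(4.1) for paths**, no type I on the side of `y 0`: there is a mover with (D) -/
theorem exists_dd (hk : 2 ≤ k) {y : ℕ → X} (hy : Pth inc W k y)
    (low : ∀ a ∈ W (y 0), ∀ b ∈ W (y (k + 1)), a * b * a⁻¹ * b⁻¹ ∈ W (y 1))
    (tp : ∀ x, Col inc x (y 0) → ∀ v ∈ R x, ∀ b ∈ W (y (k + 1)), v * b * v⁻¹ * b⁻¹ ∈ R (y 0) → v * b * v⁻¹ * b⁻¹ = 1)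
    (t2 : ∀ r ∈ R (y (k + 1)), r ∈ W (y 0) → r = 1) :
    ∃ x f, Mv inc W k y x f ∧ DD W y x f := by
  by_contra hcon
  obtain ⟨m, h0, h1⟩ := hy.col 0 (Nat.zero_le _)
  have hne : y 1 ≠ y 0 := (hy.ne_succ (Nat.zero_le _)).symm
  have hw1 : Walk inc (k + 1 - 1) (y 1) (y (k + 1)) := by
    have := hy.wk' (i := 1) (j := k + 1) (by omega) le_rfl
    simpa using this
  refine false_of_bad D F hy.crit (by omega) h0 h1 hne hw1 tp t2 ?_
  intro f hf h hh ho hi hmv hcen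
  refine comm_V D hy low (F.kf_all D h0) h0 h1 hf hh ho hi hmv fun hdd => hcon ?_
  have hhp : h • y 0 = y 0 := Four.fix_p D hh
  have hcl : inc (y 0) (h • m) := by
    have := D.inc_smul h _ _ h0
    rwa [hhp] at this
  exact ⟨h • y 1, f, ⟨hf, ⟨h • m, D.inc_smul h _ _ h1, hcl⟩, hmv, fun u hu _ hfu => hcen u hu hfu⟩, hdd⟩

/-- **`HD` over `Frm`**: every goal pair has a mover with (D) -/
theorem hD (hk : 2 ≤ k) : HD inc R W k := by
  intro y hy
  refine exists_dd D F hk hy.toPth hy.low ?_ hy.t2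
  intro x hx v hv b hb hmem
  exact hy.t1 _ hmem (comm_mem D hy.crit (by omega) (R_le_of_col D hx hv) hb).2

/-- **`HT` over `Frm`** -/
theorem hT (hk : 2 ≤ k) : HT inc R W V k := term D F hk (hB D F)

end frm

end Cfsg.Agent.Omega.NO3S.FarQ.Free
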