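import Cfsg.Agent.Omega.NO3S.FarQ.Free.Bad
import Cfsg.Agent.Omega.NO3S.PtGeom

/-!
# FarQ: `KF` ((F1), (F2') for `K_p`) at every flag

* `KF.smul` : transport; `kf` : `PL S P V Z`, (F1) and `OmQ S V` give `KF` at every flag `(p, l)`.
-/

set_option autoImplicit false
set_option linter.unusedSectionVars false

namespace Cfsg.Agent.Omega.NO3S.FarQ.Bad

open Subgroup Cfsg Cfsg.Agent.ZN Cfsg.Agent.MinSimple.VModule Cfsg.Agent.Omega.NOThree.Pts

section smul

variable {G X L : Type*} [Group G] [MulAction G X] [MulAction G L]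
variable {inc : X → L → Prop} {R W : X → Subgroup G} {V : L → Subgroup G} {s t n : ℕ}

/-- `g C_G(R_p) g⁻¹ = C_G(R_{g p})` -/
theorem conj_cent (D : Geom inc R W V s t) {p : X} (g : G) {a : G} (ha : a ∈ centralizer (R p : Set G)) :
    g * a * g⁻¹ ∈ centralizer (R (g • p) : Set G) := by
  rw [mem_centralizer_iff] at ha ⊢
  intro r hr
  have h1 := ha _ ((D.R_smul_iff g).1 hr)
  calc r * (g * a * g⁻¹) = g * ((g⁻¹ * r * g) * a) * g⁻¹ := by group
    _ = g * (a * (g⁻¹ * r * g)) * g⁻¹ := by rw [h1]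
    _ = g * a * g⁻¹ * r := by group

theorem V_iff (D : Geom inc R W V s t) (g : G) {l : L} {a : G} : a ∈ V (g • l) ↔ g⁻¹ * a * g ∈ V l := by
  constructor
  · intro h
    have := D.V_smul g⁻¹ _ a h
    rwa [inv_smul_smul, inv_inv] at this
  · intro h
    have := D.V_smul g _ _ h
    have e : g * (g⁻¹ * a * g) * g⁻¹ = a := by group
    rwa [e] at this

/-- Transport. -/
theorem KF.smul (D : Geom inc R W V s t) {p : X} {l : L} (K : KF inc R W V p l) (g : G) :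
    KF inc R W V (g • p) (g • l) := by
  have mR : ∀ {x : X} {a : G}, a ∈ R (g • x) ↔ g⁻¹ * a * g ∈ R x := D.R_smul_iff g
  have mW : ∀ {x : X} {a : G}, a ∈ W (g • x) ↔ g⁻¹ * a * g ∈ W x := D.W_smul_iff g
  have mV : ∀ {x : L} {a : G}, a ∈ V (g • x) ↔ g⁻¹ * a * g ∈ V x := V_iff D g
  have key : ∀ k w : G, g⁻¹ * (g * k * g⁻¹ * w * (g * k * g⁻¹)⁻¹ * w⁻¹) * g =
      k * (g⁻¹ * w * g) * k⁻¹ * (g⁻¹ * w * g)⁻¹ := fun k w => by group
  refine ⟨fun v hv hvp r hr => ?_, fun u hu hu' huV r hr => ?_⟩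
  · obtain ⟨k, hk, hk', e⟩ := K.f1 _ (mV.1 hv) (fun h => hvp (mR.2 h)) _ (mR.1 hr)
    refine ⟨g * k * g⁻¹, conj_cent D g hk, fun w hw => ?_, ?_⟩
    · rw [mR, key]
      exact hk' _ (mW.1 hw)
    · rw [← key] at e
      have h1 := congrArg (fun a => g * a * g⁻¹) e
      simpa [mul_assoc] using h1
  · have hI : ∀ y, inc y l → g⁻¹ * u * g ∈ W y := fun y hy => mW.1 (hu' _ (D.inc_smul g _ _ hy))
    obtain ⟨k, hk, hk', hkV, e⟩ := K.f2 _ (mW.1 hu) hI (fun h => huV (mV.2 h)) _ (mR.1 hr)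
    refine ⟨g * k * g⁻¹, conj_cent D g hk, fun w hw => ?_, fun v hv => ?_, ?_⟩
    · rw [mR, key]
      exact hk' _ (mW.1 hw)
    · have h1 := hkV _ (mV.1 hv)
      calc g * k * g⁻¹ * v = g * (k * (g⁻¹ * v * g)) * g⁻¹ := by group
        _ = g * ((g⁻¹ * v * g) * k) * g⁻¹ := by rw [h1]
        _ = v * (g * k * g⁻¹) := by group
    · rw [← key] at e
      have h1 := congrArg (fun a => g * a * g⁻¹) e
      simpa [mul_assoc] using h1

end smul

open Cfsg.Agent.Omega.NO3S.PT Cfsg.Agent.Omega.NO3S.PtGeom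
open scoped Pointwise

variable {G : Type*} [Group G] [Finite G] {S : Sylow 2 G} {P V Z : Subgroup G}

/-- the base flag -/
theorem kf_base (h : PL S P V Z) (hf : ¬ kx V Z ≤ centralizer (V : Set G)) (hO : OmQ S V) :
    KF (inc (Z := Z) (V := V)) (fun x => x.sg) (fun x => ws V x.sg) (fun l => l.sg) (Pt.base Z) (Pt.base V) where
  f1 v hv hvp r hr := by
    obtain ⟨k, hk, -, hkv⟩ := h.K_act hf hv hvp hr
    exact ⟨k, kx_le_cent hk, (mem_kx.1 hk).2, hkv⟩
  f2 u _ hu' huV r hr := by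
    have hI : u ∈ IV V Z := by
      rw [IV, Subgroup.mem_sInf]
      rintro _ ⟨Y, hY, hYV, rfl⟩
      exact hu' (Pt.mk hY) hYV
    obtain ⟨k, hk, hkV, hku⟩ := h.F2' hf hO hI huV h.isCj_self h.ZV hr
    exact ⟨k, kx_le_cent hk, (mem_kx.1 hk).2, fun v hv => (mem_centralizer_iff.1 hkV v hv).symm, hku⟩

/-- **`KF` at every flag.** -/
theorem kf (h : PL S P V Z) (hf : ¬ kx V Z ≤ centralizer (V : Set G)) (hO : OmQ S V) {p : Pt Z} {l : Pt V}
    (hpl : inc p l) :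
    KF (inc (Z := Z) (V := V)) (fun x => x.sg) (fun x => ws V x.sg) (fun l => l.sg) p l := by
  obtain ⟨g, h1, h2⟩ := exists_conj_flag h p.isCj l.isCj hpl
  have e1 : p = g • Pt.base Z := Pt.ext h1
  have e2 : l = g • Pt.base V := Pt.ext h2
  rw [e1, e2]
  exact (kf_base h hf hO).smul (geom h hf hO) g

end Cfsg.Agent.Omega.NO3S.FarQ.Bad
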