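import Cfsg.Agent.Omega.NO3S.FarQ.Free.Base
import Cfsg.Agent.Omega.NO3S.FarQ.Free.RealB2
import Cfsg.Agent.Omega.NO3S.FarB.Real

/-!
# FarQ K-free over the `(R, B)`-frame: the instance of `Frm`

`exists_frm` : `PB S B P V Z`, (F1), `OmB B V`, `|Z| ≥ 4`, (NO) : the whole input `Frm` at the base flag.
-/

set_option autoImplicit false
set_option linter.unusedSectionVars false

namespace Cfsg.Agent.Omega.NO3S.FarQ.Free.RealB2

open Subgroup Cfsg Cfsg.Agent.ZN Cfsg.Agent.MinSimple.VModule Cfsg.Agent.Omega.NOThree.Pts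
open Cfsg.Agent.Omega.NO3S.FarQ Cfsg.Agent.Omega.NO3S.FarQ.Glue Cfsg.Agent.Omega.NO3S.PT
open Cfsg.Agent.Omega.NO3S.PtGeom (Pt inc)
open scoped Pointwise

universe u

variable {G : Type u} [Group G] [Finite G] {S : Sylow 2 G} {B P V Z : Subgroup G} (h : PB S B P V Z)
include h

/-- **The instance of `Frm`.** -/
theorem exists_frm (hf : ¬ kx V Z ≤ centralizer (V : Set G)) (hO : OmB B V) (hq : 4 ≤ Nat.card Z)
    (hNO : KNO.{u} (fun H _ => Img (centralizer (Z : Set G)) H)) :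
    ∃ (H M K : Type u) (_ : Group H) (_ : CommGroup M) (_ : MulDistribMulAction H M) (_ : CommGroup K)
      (ρ : G → H) (π : G → M) (ζ : K →* G) (T : Subgroup H) (lam U : Subgroup M) (Kh : Subgroup (M →* K)),
      Frm (inc (Z := Z) (V := V)) (fun x => x.sg) (fun x => ws V x.sg) (fun l => l.sg) (Pt.base Z) (Pt.base V)
        B ρ π ζ T lam U Kh ∧ Img (centralizer (Z : Set G)) H := by
  obtain ⟨H, M, K, iH, iM, iA, iK, ρ, π, ζ, T, lam, U, Kh, F⟩ := FarB.exists_rd h hf hO hq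
  have hI : Img (centralizer (Z : Set G)) H :=
    ⟨MonoidHom.mk' (fun a => ρ a) (fun a b => F.re.mul a a.2 b b.2), fun x => by
      obtain ⟨g, hg, rfl⟩ := F.re.surj x
      exact ⟨⟨g, hg⟩, rfl⟩⟩
  exact ⟨H, M, K, iH, iM, iA, iK, ρ, π, ζ, T, lam, U, Kh,
    { toRD := F, fl := fl h, cl := cl h, no := hNO H M T lam hI F.flag.toK, f2 := f2 h hf hO }, hI⟩

end Cfsg.Agent.Omega.NO3S.FarQ.Free.RealB2
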